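import Groth.Agent.Lib.StalkCrit24.StalkCrit
import Groth.Agent.Lib.LocAcyc24.Transport
import Groth.Agent.Lib.LocAcyc24.TorsionConst
import Groth.Agent.Lib.LocAcyc24.SHPoint
import Groth.Agent.Lib.EtAcyc24.Comp
import Groth.Agent.Lib.EtDesc24.SepClosed
import Groth.Agent.Lib.AlgSpEt14.HensPt
import Mathlib.CategoryTheory.Sites.Point.Category

/-!
# Base change maps and strict henselizations
-/

set_option autoImplicit false
set_option linter.style.haveILetI false
set_option linter.unusedSectionVars false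
set_option backward.isDefEq.respectTransparency false
set_option backward.isDefEq.respectTransparency.types false

universe u

open CategoryTheory CategoryTheory.Limits AlgebraicGeometry Opposite CategoryTheory.Abelian

namespace Groth.Agent.StalkCrit24

open Groth.Agent.EtStalk Groth.Agent.StrictLim24

/-- A strict henselization of a local ring exists. -/
theorem exists_strictHenselization_of_local (A : Type u) [CommRing A] [IsLocalRing A] :
    ∃ (R : Type u) (_ : CommRing R) (_ : IsLocalRing R) (_ : Algebra A R) (_ : IsLocalHom (algebraMap A R)),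
      Hensel.IsStrictHenselization A R := by
  let K := SeparableClosure (IsLocalRing.ResidueField A)
  letI : Algebra A K :=
    ((algebraMap (IsLocalRing.ResidueField A) K).comp (IsLocalRing.residue A)).toAlgebra
  have hq : ∀ r : A, algebraMap A K r = 0 ↔ r ∈ IsLocalRing.maximalIdeal A := fun r => by
    show algebraMap (IsLocalRing.ResidueField A) K (IsLocalRing.residue A r) = 0 ↔ _
    rw [map_eq_zero]
    exact IsLocalRing.residue_eq_zero_iff r
  haveI : IsLocalization.AtPrime A (IsLocalRing.maximalIdeal A) :=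
    IsLocalization.self (fun a (ha : a ∉ IsLocalRing.maximalIdeal A) => IsLocalRing.notMem_maximalIdeal.1 ha)
  obtain ⟨i₁, i₂, -, h⟩ := HensPt14.exists_isStrictHenselization (R := A) (K := K) (IsLocalRing.maximalIdeal A) hq A
  exact ⟨_, _, _, i₁, i₂, h⟩

section Points

variable {R : Type u} [CommRing R] [HenselianLocalRing R] [IsSepClosed (IsLocalRing.ResidueField R)]
  {Ω : Type u} [Field Ω] [IsSepClosed Ω] (ρ : IsLocalRing.ResidueField R →+* Ω)
  {S : Scheme.{u}} (σ : Spec (CommRingCat.of R) ⟶ S)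

/-- Change of the separably closed field at a geometric point over a closed point. -/
noncomputable def pointHom : Scheme.pointSmallEtale (geo ρ ≫ σ) ⟶ Scheme.pointSmallEtale (closedPt R ≫ σ) :=
  ⟨{ app := fun V => TypeCat.ofHom (fun v => Over.homMk (Spec.map (CommRingCat.ofHom ρ) ≫ v.left) (by
        refine (Category.assoc _ _ _).trans ?_
        refine (congrArg (Spec.map (CommRingCat.ofHom ρ) ≫ ·) (Over.w v)).trans ?_
        exact (Category.assoc _ _ _).symm))
     naturality := fun V V' a => by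
       ext v
       exact Over.OverMorphism.ext (Category.assoc _ _ _).symm }⟩

lemma isIso_pointHom : IsIso (pointHom ρ σ) := by
  haveI : ∀ V, IsIso ((pointHom ρ σ).hom.app V) := by
    intro V
    rw [CategoryTheory.isIso_iff_bijective]
    refine ⟨fun v v' hv => ?_, fun v => ?_⟩
    · haveI : Flat (Spec.map (CommRingCat.ofHom ρ)) := inferInstance
      haveI : Surjective (Spec.map (CommRingCat.ofHom ρ)) := inferInstance
      exact Over.OverMorphism.ext ((cancel_epi (Spec.map (CommRingCat.ofHom ρ))).1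
        (congrArg (fun t : fib (geo ρ ≫ σ) V => t.left) hv))
    · obtain ⟨l, hl, hlv⟩ := exists_lift_geo ρ σ V v
      refine ⟨Over.homMk (closedPt R ≫ l) ((Category.assoc _ _ _).trans (congrArg (closedPt R ≫ ·) hl)),
        Over.OverMorphism.ext ?_⟩
      exact (Category.assoc _ _ _).symm.trans hlv
  haveI : IsIso (pointHom ρ σ).hom := NatIso.isIso_of_isIso_app _
  exact ⟨⟨inv (pointHom ρ σ).hom⟩, GrothendieckTopology.Point.hom_ext (IsIso.inv_hom_id _),
    GrothendieckTopology.Point.hom_ext (IsIso.hom_inv_id _)⟩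

/-- Bijectivity at stalks does not depend on the separably closed field. -/
theorem bijective_stalk_geo_iff {F G : EtCoh.Ab S} (a : F ⟶ G) :
    Function.Bijective ((EtCoh.stalk (geo ρ ≫ σ)).map a) ↔
      Function.Bijective ((EtCoh.stalk (closedPt R ≫ σ)).map a) := by
  haveI := isIso_pointHom ρ σ
  haveI : IsIso ((pointHom ρ σ).sheafFiber (A := AddCommGrpCat.{u + 1})) :=
    ⟨⟨(inv (pointHom ρ σ)).sheafFiber,
      by rw [← GrothendieckTopology.Point.Hom.sheafFiber_comp, IsIso.inv_hom_id, GrothendieckTopology.Point.Hom.sheafFiber_id],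
      by rw [← GrothendieckTopology.Point.Hom.sheafFiber_comp, IsIso.hom_inv_id, GrothendieckTopology.Point.Hom.sheafFiber_id]⟩⟩
  rw [← ConcreteCategory.isIso_iff_bijective, ← ConcreteCategory.isIso_iff_bijective]
  exact (NatIso.isIso_map_iff (asIso ((pointHom ρ σ).sheafFiber (A := AddCommGrpCat.{u + 1}))) a).symm

end Points

section Transport

variable {A B : Scheme.{u}} (m : A ⟶ B) [PreservesFiniteLimits (EtCoh.pull m)]

lemma bijective_Hpull_iff_of_iso {G G' : EtCoh.Ab B} (φ : G ≅ G') (q : ℕ) :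
    Function.Bijective (EtCore.Hpull m G q) ↔ Function.Bijective (EtCore.Hpull m G' q) := by
  have h : (fun z => z.comp (Ext.mk₀ ((EtCoh.pull m).mapIso φ).hom) (add_zero q)) ∘ EtCore.Hpull m G q =
      EtCore.Hpull m G' q ∘ fun z => z.comp (Ext.mk₀ φ.hom) (add_zero q) :=
    funext fun x => LocAcyc24.Hpull_nat m φ.hom q x
  rw [← Function.Bijective.of_comp_iff' (EtAcyc24.bijective_comp_iso ((EtCoh.pull m).mapIso φ) q), h]
  exact Function.Bijective.of_comp_iff _ (EtAcyc24.bijective_comp_iso φ q)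

lemma bijective_HpullVia_iff {Z : Scheme.{u}} (t : B ⟶ Z) (t₀ : A ⟶ Z) (w : m ≫ t = t₀) (F : EtCoh.Ab Z) (q : ℕ) :
    Function.Bijective (EtCore.HpullVia m t t₀ w F q) ↔
      Function.Bijective (EtCore.Hpull m ((EtCoh.pull t).obj F) q) :=
  Function.Bijective.of_comp_iff' (ConcreteCategory.bijective_of_isIso
    ((EtCoh.HF A q).map (((EtCore.pullComp m t).symm ≪≫ EtCore.pullCongr w).app F).hom)) _

lemma bijective_Hpull_of_eq {f f' : A ⟶ B} (e : f = f') [PreservesFiniteLimits (EtCoh.pull f)]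
    [PreservesFiniteLimits (EtCoh.pull f')] (G : EtCoh.Ab B) (q : ℕ) :
    Function.Bijective (EtCore.Hpull f G q) ↔ Function.Bijective (EtCore.Hpull f' G q) := by
  subst e
  rfl

lemma bijective_Hpull_comp_right {B' : Scheme.{u}} (j : B ⟶ B') [IsIso j] (G : EtCoh.Ab B') (q : ℕ) :
    Function.Bijective (EtCore.Hpull (m ≫ j) G q) ↔
      Function.Bijective (EtCore.Hpull m ((EtCoh.pull j).obj G) q) := by
  rw [EtAcyc24.Hpull_comp_eq]
  exact (Function.Bijective.of_comp_iff' (EtAcyc24.bijective_comp_iso _ q) _).trans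
    (Function.Bijective.of_comp_iff _ (LocAcyc24.bijective_Hpull_of_isIso j G q))

lemma bijective_Hpull_comp_left {A' B' : Scheme.{u}} (i : A' ⟶ B') [IsIso i] (m' : B' ⟶ B)
    [PreservesFiniteLimits (EtCoh.pull m')] (G : EtCoh.Ab B) (q : ℕ) :
    Function.Bijective (EtCore.Hpull (i ≫ m') G q) ↔ Function.Bijective (EtCore.Hpull m' G q) := by
  rw [EtAcyc24.Hpull_comp_eq]
  exact (Function.Bijective.of_comp_iff' (EtAcyc24.bijective_comp_iso _ q) _).trans
    (Function.Bijective.of_comp_iff' (LocAcyc24.bijective_Hpull_of_isIso i ((EtCoh.pull m').obj G) q) _)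

/-- Bijectivity of pullback is invariant under isomorphisms of source and target. -/
theorem bijective_Hpull_conj {A' B' Z : Scheme.{u}} (i : A ⟶ A') (j : B ⟶ B') [IsIso i] [IsIso j] (m' : A' ⟶ B')
    (hm : m ≫ j = i ≫ m') (t : B' ⟶ Z) (t₁ : B ⟶ Z) (ht : j ≫ t = t₁) (F : EtCoh.Ab Z) (q : ℕ) :
    Function.Bijective (EtCore.Hpull m ((EtCoh.pull t₁).obj F) q) ↔
      Function.Bijective (EtCore.Hpull m' ((EtCoh.pull t).obj F) q) := by
  subst ht
  have e1 : Function.Bijective (EtCore.Hpull m ((EtCoh.pull (j ≫ t)).obj F) q) ↔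
      Function.Bijective (EtCore.Hpull m ((EtCoh.pull j).obj ((EtCoh.pull t).obj F)) q) :=
    bijective_Hpull_iff_of_iso m ((EtCore.pullComp j t).app F) q
  refine e1.trans ?_
  exact (bijective_Hpull_comp_right m j ((EtCoh.pull t).obj F) q).symm.trans
    ((bijective_Hpull_of_eq hm _ q).trans (bijective_Hpull_comp_left i m' ((EtCoh.pull t).obj F) q))

end Transport

section Main

variable {X S Y T : Scheme.{u}} (f : X ⟶ S) (g : T ⟶ S) [QuasiCompact g] [QuasiSeparated g] (h : Y ⟶ X)
  [QuasiCompact h] [QuasiSeparated h] (e : Y ⟶ T) (c : IsPullback e h g f) [PreservesFiniteLimits (EtCoh.pull e)]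
  (F : EtCoh.Ab T) (q : ℕ)
  {RS RX : Type u} [CommRing RS] [CommRing RX] [HenselianLocalRing RS] [HenselianLocalRing RX]
  [IsSepClosed (IsLocalRing.ResidueField RS)] [IsSepClosed (IsLocalRing.ResidueField RX)]
  (σS : Spec (CommRingCat.of RS) ⟶ S) (σX : Spec (CommRingCat.of RX) ⟶ X) (ψ : RS →+* RX) [IsLocalHom ψ]
  (hψ : Spec.map (CommRingCat.ofHom ψ) ≫ σS = σX ≫ f) (TS : StrictSys σS) (TX : StrictSys σX)
  {PS PX : Scheme.{u}} {aS : PS ⟶ T} {bS : PS ⟶ Spec (CommRingCat.of RS)}
  (hPS : IsPullback aS bS g σS) {aX : PX ⟶ T} {bX : PX ⟶ Spec (CommRingCat.of RX)}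
  (hPX : IsPullback aX bX g (σX ≫ f)) {m : PX ⟶ PS} (w : m ≫ aS = aX)
  (hm : m ≫ bS = bX ≫ Spec.map (CommRingCat.ofHom ψ)) [PreservesFiniteLimits (EtCoh.pull m)]

include hψ in
lemma conj_mMap (j : PX ⟶ pullback h σX) (hj₁ : j ≫ pullback.fst h σX ≫ e = aX) (hj₂ : j ≫ pullback.snd h σX = bX)
    (k : PS ⟶ pullback g σS) (hk₁ : k ≫ pullback.fst g σS = aS) (hk₂ : k ≫ pullback.snd g σS = bS)
    (w : m ≫ aS = aX) (hm : m ≫ bS = bX ≫ Spec.map (CommRingCat.ofHom ψ)) :
    m ≫ k = j ≫ mMap f g h e c.w σS σX ψ hψ := by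
  refine pullback.hom_ext ?_ ?_
  · rw [Category.assoc, hk₁, w, Category.assoc, mMap_fst]
    exact hj₁.symm
  · rw [Category.assoc, hk₂, hm, Category.assoc, mMap, pullback.lift_snd, ← Category.assoc, hj₂]

include c hψ TS TX hPS hPX hm in
/-- The criterion at one strict localization. -/
theorem bijective_HpullVia_iff_stalk :
    Function.Bijective (EtCore.HpullVia m aS aX w F q) ↔
      Function.Bijective ((EtCoh.stalk (ptX σX)).map (EtBC.bcQ g f h e c.w q F)) := by
  refine (bijective_HpullVia_iff m aS aX w F q).trans (Iff.trans ?_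
    (bijective_stalk_bcQ_iff f g h e c.w σS σX ψ hψ TS TX F q).symm)
  have hX' : IsPullback (pullback.fst h σX ≫ e) (pullback.snd h σX) g (σX ≫ f) :=
    ((IsPullback.of_hasPullback h σX).flip.paste_vert c.flip).flip
  exact bijective_Hpull_conj m (hPX.isoIsPullback _ _ hX').hom hPS.isoPullback.hom
    (mMap f g h e c.w σS σX ψ hψ)
    (conj_mMap f g h e c σS σX ψ hψ _ (hPX.isoIsPullback_hom_fst _ _ hX') (hPX.isoIsPullback_hom_snd _ _ hX')
      _ hPS.isoPullback_hom_fst hPS.isoPullback_hom_snd w hm)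
    (pullback.fst g σS) aS hPS.isoPullback_hom_fst F q

end Main

/-- A geometric point factors through the strict localization at its image. -/
theorem exists_geo {X : Scheme.{u}} {Ω : Type u} [Field Ω] [IsSepClosed Ω] (ξ : Spec (CommRingCat.of Ω) ⟶ X)
    {x : X} (hx : ξ (IsLocalRing.closedPoint Ω) = x) (R : Type u) [CommRing R] [HenselianLocalRing R]
    [Algebra (X.presheaf.stalk x) R] [IsLocalHom (algebraMap (X.presheaf.stalk x) R)]
    [Hensel.IsStrictHenselization (X.presheaf.stalk x) R] :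
    ∃ ρ : IsLocalRing.ResidueField R →+* Ω, geo ρ ≫ Hens2.specOf X x R = ξ := by
  haveI : IsSepClosed (IsLocalRing.ResidueField Ω) := EtDesc24.isSepClosed_residueField Ω
  obtain ⟨g, hg, hgξ⟩ := LocAcyc24.exists_lift (R := R) (T := Ω) ξ hx
  refine ⟨IsLocalRing.ResidueField.lift g, ?_⟩
  rw [← hgξ]
  refine congrArg (· ≫ Hens2.specOf X x R) ?_
  show Spec.map (CommRingCat.ofHom (IsLocalRing.ResidueField.lift g)) ≫
    Spec.map (CommRingCat.ofHom (IsLocalRing.residue R)) = _
  rw [← Spec.map_comp, ← CommRingCat.ofHom_comp]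
  rfl

end Groth.Agent.StalkCrit24
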