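import Groth.Agent.Lib.StalkCrit24.GeomEval
import Groth.Agent.Lib.EtStalk.HpullComp

/-!
# Sections and inverse images
-/

set_option autoImplicit false
set_option linter.style.haveILetI false
set_option linter.unusedSectionVars false
set_option backward.isDefEq.respectTransparency false
set_option backward.isDefEq.respectTransparency.types false

universe u

open CategoryTheory CategoryTheory.Limits AlgebraicGeometry Opposite

namespace Groth.Agent.StalkCrit24

open Groth.Agent.EtStalk Groth.Agent.StrictLim24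

variable {X : Scheme.{u}}

/-- Global sections as maps from `ℤ`. -/
noncomputable def ev (G : EtCoh.Ab X) : (EtCoh.const X ℤ ⟶ G) →+ G.obj.obj (op (EtCoh.top X)) :=
  AddMonoidHom.mk' (fun w => w.hom.app (op (EtCoh.top X)) (oneSec X)) fun _ _ => rfl

lemma ev_apply (G : EtCoh.Ab X) (w : EtCoh.const X ℤ ⟶ G) : ev G w = w.hom.app (op (EtCoh.top X)) (oneSec X) := rfl

lemma bijective_ev (G : EtCoh.Ab X) : Function.Bijective (ev G) := by
  have h : ⇑(ev G) = fun w => AddCommGrpCat.uliftZMultiplesAddEquiv (G.obj.obj (op (EtCoh.top X)))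
      ((EtCore.constAdj X).homEquiv _ _ w) := by
    funext w
    change _ = ((EtCore.constAdj X).homEquiv _ _ w) (ULift.up 1)
    rw [Adjunction.homEquiv_unit]
    rfl
  rw [h]
  exact (AddCommGrpCat.uliftZMultiplesAddEquiv _).bijective.comp ((EtCore.constAdj X).homEquiv _ _).bijective

lemma ev_comp {G G' : EtCoh.Ab X} (w : EtCoh.const X ℤ ⟶ G) (a : G ⟶ G') :
    ev G' (w ≫ a) = a.hom.app (op (EtCoh.top X)) (ev G w) := rfl

variable {A B C : Scheme.{u}}

/-- Transport of sections by a map from an inverse image. -/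
noncomputable def trSec (v : A ⟶ B) {G : EtCoh.Ab B} {H : EtCoh.Ab A} (β : (EtCoh.pull v).obj G ⟶ H) :
    G.obj.obj (op (EtCoh.top B)) →+ H.obj.obj (op (EtCoh.top A)) :=
  (H.obj.map (topUp v).op).hom.comp (((EtCoh.pullPushAdj v).homEquiv _ _ β).hom.app (op (EtCoh.top B))).hom

lemma ev_pull (v : A ⟶ B) {G : EtCoh.Ab B} {H : EtCoh.Ab A} (β : (EtCoh.pull v).obj G ⟶ H)
    (w : EtCoh.const B ℤ ⟶ G) :
    ev H ((EtCore.pullConst v ℤ).inv ≫ (EtCoh.pull v).map w ≫ β) = trSec v β (ev G w) := by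
  have hb : topUp v = (EtCore.bcTopIso v).inv := (EtCore.bcTopIsTerminal v).hom_ext _ _
  show β.hom.app _ (((EtCoh.pull v).map w).hom.app _ ((EtCore.pullConst v ℤ).inv.hom.app _ (oneSec A))) = _
  rw [pullConst_inv_one v, NatTrans.naturality_apply, NatTrans.naturality_apply, ← hb]
  show H.obj.map (topUp v).op _ = H.obj.map (topUp v).op _
  refine congrArg _ ?_
  rw [Adjunction.homEquiv_unit]
  exact congrArg (β.hom.app _)
    (congrArg (fun t : EtCoh.const B ℤ ⟶ (EtCoh.push v).obj ((EtCoh.pull v).obj G) =>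
      t.hom.app (op (EtCoh.top B)) (oneSec B)) ((EtCoh.pullPushAdj v).unit.naturality w)).symm

lemma trSec_comp (v : A ⟶ B) {G : EtCoh.Ab B} {H H' : EtCoh.Ab A} (β : (EtCoh.pull v).obj G ⟶ H) (c : H ⟶ H')
    (z : G.obj.obj (op (EtCoh.top B))) :
    trSec v (β ≫ c) z = c.hom.app (op (EtCoh.top A)) (trSec v β z) := by
  show H'.obj.map (topUp v).op (((EtCoh.pullPushAdj v).homEquiv _ _ (β ≫ c)).hom.app _ z) = _
  rw [Adjunction.homEquiv_naturality_right]
  exact (NatTrans.naturality_apply c.hom (topUp v).op _).symm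

/-- A section of an inverse image along a composite, from the unit section of the first map. -/
lemma sec_unit (v : A ⟶ B) (u : B ⟶ C) (w : A ⟶ C) (e : v ≫ u = w) (F : EtCoh.Ab C) (U : C.Etale)
    (y : A ⟶ ((EtCoh.bc u).obj U).left) (hy : y ≫ ((EtCoh.bc u).obj U).hom = v)
    (hy' : (y ≫ pullback.fst U.hom u) ≫ U.hom = w) (s : F.obj.obj (op U)) :
    ((EtLim24.pullT v u w e).inv.app F).hom.app (op (EtCoh.top A))
      (sec v ((EtCoh.pull u).obj F) ((EtCoh.bc u).obj U) y hy (((EtCoh.pullPushAdj u).unit.app F).hom.app (op U) s)) =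
    sec w F U (y ≫ pullback.fst U.hom u) hy' s := by
  let η := (EtCoh.pullPushAdj v).homEquiv _ _ ((EtLim24.pullT v u w e).inv.app F)
  have hη : (EtCoh.pullPushAdj u).unit.app F ≫ (EtCoh.push u).map η ≫ (EtLim24.pc v u w e).hom.app _ =
      (EtCoh.pullPushAdj w).unit.app F := by
    have h := EtLim24.transpose_comp v u w e (𝟙 ((EtCoh.pull u).obj F)) ((EtLim24.pullT v u w e).inv.app F)
    rw [Adjunction.homEquiv_id] at h
    refine h.trans ?_
    rw [← (EtCoh.pullPushAdj w).homEquiv_id]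
    refine congrArg ((EtCoh.pullPushAdj w).homEquiv F _) ?_
    rw [CategoryTheory.Functor.map_id]
    erw [Category.id_comp]
    exact Iso.hom_inv_id_app _ _
  let d : ((EtCoh.push v).obj ((EtCoh.pull w).obj F)).obj.obj (op ((EtCoh.bc u).obj U)) :=
    η.hom.app (op ((EtCoh.bc u).obj U)) (((EtCoh.pullPushAdj u).unit.app F).hom.app (op U) s)
  have hd : ((EtCoh.pull w).obj F).obj.map ((EtLim24.bcc v u w e).inv.app U).op d =
      ((EtCoh.pullPushAdj w).unit.app F).hom.app (op U) s := by
    refine (EtLim24.pc_app v u w e _ U d).symm.trans ?_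
    exact congrArg (fun m : F ⟶ (EtCoh.push w).obj ((EtCoh.pull w).obj F) => m.hom.app (op U) s) hη
  have hd' : d = ((EtCoh.pull w).obj F).obj.map ((EtLim24.bcc v u w e).hom.app U).op
      (((EtCoh.pullPushAdj w).unit.app F).hom.app (op U) s) := by
    rw [← hd]
    refine Eq.symm ((Functor.map_comp_apply ((EtCoh.pull w).obj F).obj ((EtLim24.bcc v u w e).inv.app U).op
      ((EtLim24.bcc v u w e).hom.app U).op d).symm.trans ?_)
    rw [← op_comp, Iso.hom_inv_id_app, op_id]
    exact ConcreteCategory.congr_hom (((EtCoh.pull w).obj F).obj.map_id _) d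
  rw [sec_apply v]
  refine (NatTrans.naturality_apply ((EtLim24.pullT v u w e).inv.app F).hom (topLift v ((EtCoh.bc u).obj U) y hy).op _).trans ?_
  have hd2 : ((EtLim24.pullT v u w e).inv.app F).hom.app (op ((EtCoh.bc v).obj ((EtCoh.bc u).obj U)))
      (((EtCoh.pullPushAdj v).unit.app ((EtCoh.pull u).obj F)).hom.app (op ((EtCoh.bc u).obj U))
        (((EtCoh.pullPushAdj u).unit.app F).hom.app (op U) s)) = d := by
    show _ = ((EtCoh.pullPushAdj v).homEquiv _ _ _).hom.app _ _
    rw [Adjunction.homEquiv_unit]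
    rfl
  rw [hd2, hd', sec_apply]
  refine (Functor.map_comp_apply ((EtCoh.pull w).obj F).obj ((EtLim24.bcc v u w e).hom.app U).op (topLift v ((EtCoh.bc u).obj U) y hy).op _).symm.trans ?_
  rw [← op_comp]
  refine congrArg (fun m : EtCoh.top A ⟶ (EtCoh.bc w).obj U => ((EtCoh.pull w).obj F).obj.map m.op _) ?_
  refine EtLim24.bc_hom_ext ?_
  refine Eq.trans ?_ (topLift_fst w U _ hy').symm
  simp only [EtLim24.comp_left', Category.assoc]
  refine (congrArg (fun t => (topLift v ((EtCoh.bc u).obj U) y hy).left ≫ t)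
    (EtLim24.bcc_hom_left_fst v u w e U)).trans ?_
  refine (Category.assoc _ _ _).symm.trans ?_
  exact congrArg (· ≫ pullback.fst U.hom u) (topLift_fst v ((EtCoh.bc u).obj U) y hy)

end Groth.Agent.StalkCrit24
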