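import Mathlib

/-!
# Bijectivity in cohomology, on cocycles
-/

set_option autoImplicit false
set_option linter.style.haveILetI false
set_option linter.unusedSectionVars false

universe u v

open CategoryTheory CategoryTheory.Limits

namespace Groth.Agent.StalkCrit24

variable {C D C' D' : ℕ → Type*} [∀ k, AddCommGroup (C k)] [∀ k, AddCommGroup (D k)]
  [∀ k, AddCommGroup (C' k)] [∀ k, AddCommGroup (D' k)]

/-- Coboundaries. -/
def Bd (d : ∀ k, C k →+ C (k + 1)) : ∀ n, C n → Prop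
  | 0, a => a = 0
  | n + 1, a => ∃ c, d n c = a

/-- A map of complexes is bijective on cohomology in degree `n`. -/
def BijCoc (dC : ∀ k, C k →+ C (k + 1)) (dD : ∀ k, D k →+ D (k + 1)) (φ : ∀ k, C k →+ D k) (n : ℕ) : Prop :=
  (∀ b, dD n b = 0 → ∃ a, dC n a = 0 ∧ Bd dD n (φ n a - b)) ∧
  (∀ a, dC n a = 0 → Bd dD n (φ n a) → Bd dC n a)

lemma bd_iff {dC : ∀ k, C k →+ C (k + 1)} {dC' : ∀ k, C' k →+ C' (k + 1)} (e : ∀ k, C k →+ C' k)
    (he : ∀ k, Function.Bijective (e k)) (hc : ∀ k x, e (k + 1) (dC k x) = dC' k (e k x)) :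
    ∀ (n : ℕ) (a : C n), Bd dC' n (e n a) ↔ Bd dC n a
  | 0, a => map_eq_zero_iff (e 0) (he 0).1
  | n + 1, a => by
    refine ⟨fun ⟨c', hc'⟩ => ?_, fun ⟨c, h⟩ => ⟨e n c, by rw [← hc, h]⟩⟩
    obtain ⟨c, rfl⟩ := (he n).2 c'
    exact ⟨c, (he _).1 (by rw [hc, hc'])⟩

/-- Transfer along termwise bijections. -/
theorem bijCoc_iff {dC : ∀ k, C k →+ C (k + 1)} {dD : ∀ k, D k →+ D (k + 1)} {φ : ∀ k, C k →+ D k}
    {dC' : ∀ k, C' k →+ C' (k + 1)} {dD' : ∀ k, D' k →+ D' (k + 1)} {φ' : ∀ k, C' k →+ D' k}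
    (e : ∀ k, C k →+ C' k) (he : ∀ k, Function.Bijective (e k)) (hc : ∀ k x, e (k + 1) (dC k x) = dC' k (e k x))
    (g : ∀ k, D k →+ D' k) (hg : ∀ k, Function.Bijective (g k)) (hd : ∀ k x, g (k + 1) (dD k x) = dD' k (g k x))
    (hφ : ∀ k x, g k (φ k x) = φ' k (e k x)) (n : ℕ) :
    BijCoc dC dD φ n ↔ BijCoc dC' dD' φ' n := by
  constructor
  · rintro ⟨h1, h2⟩
    refine ⟨fun b' hb' => ?_, fun a' ha' hb' => ?_⟩
    · obtain ⟨b, rfl⟩ := (hg n).2 b'
      obtain ⟨a, ha, hab⟩ := h1 b ((hg _).1 (by rw [hd, hb', map_zero]))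
      refine ⟨e n a, by rw [← hc, ha, map_zero], ?_⟩
      rw [← hφ, ← map_sub, bd_iff g hg hd]
      exact hab
    · obtain ⟨a, rfl⟩ := (he n).2 a'
      rw [bd_iff e he hc]
      rw [← hφ, bd_iff g hg hd] at hb'
      exact h2 a ((he _).1 (by rw [hc, ha', map_zero])) hb'
  · rintro ⟨h1, h2⟩
    refine ⟨fun b hb => ?_, fun a ha hb => ?_⟩
    · obtain ⟨a', ha', hab⟩ := h1 (g n b) (by rw [← hd, hb, map_zero])
      obtain ⟨a, rfl⟩ := (he n).2 a'
      refine ⟨a, (he _).1 (by rw [hc, ha', map_zero]), ?_⟩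
      rw [← hφ, ← map_sub, bd_iff g hg hd] at hab
      exact hab
    · rw [← bd_iff e he hc]
      refine h2 (e n a) (by rw [← hc, ha, map_zero]) ?_
      rw [← hφ, bd_iff g hg hd]
      exact hb

variable {K L : CochainComplex AddCommGrpCat.{v} ℕ}

/-- The differentials as additive maps. -/
abbrev dAb (K : CochainComplex AddCommGrpCat.{v} ℕ) (k : ℕ) : (K.X k : Type v) →+ (K.X (k + 1) : Type v) :=
  (K.d k (k + 1)).hom

lemma isZero_prev (n : ℕ) (a : K.X n) : (∃ c, K.d ((ComplexShape.up ℕ).prev n) n c = a) ↔ Bd (dAb K) n a := by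
  cases n with
  | zero =>
    rw [HomologicalComplex.shape K _ _ (by simp)]
    exact ⟨fun ⟨_, hc⟩ => hc.symm, fun h => ⟨0, h.symm⟩⟩
  | succ m => rw [CochainComplex.prev_nat_succ]; rfl

lemma homologyπ_eq_zero (n : ℕ) (z : (K.cycles n : AddCommGrpCat.{v})) :
    K.homologyπ n z = 0 ↔ Bd (dAb K) n (K.iCycles n z) := by
  rw [← isZero_prev]
  have hex := ShortComplex.exact_of_g_is_cokernel
    (ShortComplex.mk _ _ (K.toCycles_comp_homologyπ ((ComplexShape.up ℕ).prev n) n))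
    (K.homologyIsCokernel _ n rfl)
  rw [ShortComplex.ab_exact_iff] at hex
  constructor
  · intro hz
    obtain ⟨c, hc⟩ := hex z hz
    refine ⟨c, ?_⟩
    rw [← hc]
    exact (ConcreteCategory.congr_hom (K.toCycles_i ((ComplexShape.up ℕ).prev n) n) c).symm
  · rintro ⟨c, hc⟩
    have : K.toCycles ((ComplexShape.up ℕ).prev n) n c = z :=
      ((AddCommGrpCat.mono_iff_injective (K.iCycles n)).1 inferInstance)
        ((ConcreteCategory.congr_hom (K.toCycles_i ((ComplexShape.up ℕ).prev n) n) c).trans hc)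
    rw [← this]
    exact ConcreteCategory.congr_hom (K.toCycles_comp_homologyπ _ n) c

lemma exists_cycle (n : ℕ) (a : K.X n) (ha : dAb K n a = 0) : ∃ z : (K.cycles n : AddCommGrpCat.{v}), K.iCycles n z = a := by
  have hex := ShortComplex.exact_of_f_is_kernel
    (ShortComplex.mk _ _ (K.iCycles_d n (n + 1))) (K.cyclesIsKernel n (n + 1) (CochainComplex.next ℕ n))
  rw [ShortComplex.ab_exact_iff] at hex
  exact hex a ha

lemma iCycles_dAb (n : ℕ) (z : (K.cycles n : AddCommGrpCat.{v})) : dAb K n (K.iCycles n z) = 0 :=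
  ConcreteCategory.congr_hom (K.iCycles_d n (n + 1)) z

/-- Homology in terms of cocycles. -/
theorem isIso_homologyMap_iff (φ : K ⟶ L) (n : ℕ) :
    IsIso (HomologicalComplex.homologyMap φ n) ↔ BijCoc (dAb K) (dAb L) (fun k => (φ.f k).hom) n := by
  rw [ConcreteCategory.isIso_iff_bijective]
  have hπ : ∀ (M : CochainComplex AddCommGrpCat.{v} ℕ), Function.Surjective (M.homologyπ n) := fun M =>
    (AddCommGrpCat.epi_iff_surjective _).1 inferInstance
  have hnat : ∀ z, HomologicalComplex.homologyMap φ n (K.homologyπ n z) =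
      L.homologyπ n (HomologicalComplex.cyclesMap φ n z) :=
    fun z => ConcreteCategory.congr_hom (HomologicalComplex.homologyπ_naturality φ n) z
  have hi : ∀ z, L.iCycles n (HomologicalComplex.cyclesMap φ n z) = φ.f n (K.iCycles n z) :=
    fun z => ConcreteCategory.congr_hom (HomologicalComplex.cyclesMap_i φ n) z
  constructor
  · rintro ⟨hinj, hsurj⟩
    refine ⟨fun b hb => ?_, fun a ha hb => ?_⟩
    · obtain ⟨z', rfl⟩ := exists_cycle n b hb
      obtain ⟨ξ, hξ⟩ := hsurj (L.homologyπ n z')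
      obtain ⟨z, rfl⟩ := hπ K ξ
      refine ⟨K.iCycles n z, iCycles_dAb n z, ?_⟩
      show Bd (dAb L) n (φ.f n (K.iCycles n z) - L.iCycles n z')
      rw [← hi, ← map_sub, ← homologyπ_eq_zero, map_sub, ← hnat, hξ, sub_self]
    · obtain ⟨z, rfl⟩ := exists_cycle n a ha
      rw [← homologyπ_eq_zero]
      refine hinj ?_
      rw [hnat, map_zero, homologyπ_eq_zero, hi]
      exact hb
  · rintro ⟨h1, h2⟩
    refine ⟨(injective_iff_map_eq_zero _).2 fun ξ hξ => ?_, fun η => ?_⟩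
    · obtain ⟨z, rfl⟩ := hπ K ξ
      rw [hnat, homologyπ_eq_zero, hi] at hξ
      rw [homologyπ_eq_zero]
      exact h2 _ (iCycles_dAb n z) hξ
    · obtain ⟨z', rfl⟩ := hπ L η
      obtain ⟨a, ha, hab⟩ := h1 _ (iCycles_dAb n z')
      obtain ⟨z, rfl⟩ := exists_cycle n a ha
      refine ⟨K.homologyπ n z, ?_⟩
      rw [hnat, ← sub_eq_zero, ← map_sub, homologyπ_eq_zero, map_sub, hi]
      exact hab

end Groth.Agent.StalkCrit24
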