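import Groth.Agent.Lib.StalkCrit24.TowerCoc

/-!
# The tower of cycles of a resolution
-/

set_option autoImplicit false
set_option linter.style.haveILetI false
set_option linter.unusedSectionVars false
set_option backward.isDefEq.respectTransparency false
set_option backward.isDefEq.respectTransparency.types false

universe v v' u u'

open CategoryTheory CategoryTheory.Limits HomologicalComplex

namespace Groth.Agent.StalkCrit24

namespace Tower

variable {A : Type u} [Category.{v} A] [Abelian A]

/-- The tower of cycles of a complex which is exact in positive degrees. -/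
@[reducible] noncomputable def ofComplex (K : CochainComplex A ℕ) (h : ∀ n, K.ExactAt (n + 1)) : Tower A where
  Z n := K.cycles n
  K n := K.X n
  i n := K.iCycles n
  p n := K.toCycles n (n + 1)
  zero n := by rw [← cancel_mono (K.iCycles (n + 1)), Category.assoc, K.toCycles_i, K.iCycles_d, zero_comp]
  se n := by
    have he : Epi (K.toCycles n (n + 1)) := by
      have hex := ShortComplex.exact_of_g_is_cokernel
        (ShortComplex.mk _ _ (K.toCycles_comp_homologyπ n (n + 1)))
        (K.homologyIsCokernel _ _ (CochainComplex.prev_nat_succ n))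
      exact hex.epi_f ((h n).isZero_homology.eq_of_tgt _ _)
    have hker := ShortComplex.exact_of_f_is_kernel (ShortComplex.mk _ _ (K.iCycles_d n (n + 1)))
      (K.cyclesIsKernel n (n + 1) (CochainComplex.next ℕ n))
    let φ : ShortComplex.mk (K.iCycles n) (K.toCycles n (n + 1))
        (by rw [← cancel_mono (K.iCycles (n + 1)), Category.assoc, K.toCycles_i, K.iCycles_d, zero_comp]) ⟶
        ShortComplex.mk _ _ (K.iCycles_d n (n + 1)) :=
      ShortComplex.homMk (𝟙 _) (𝟙 _) (K.iCycles (n + 1)) (by simp) (by simp)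
    haveI : Epi φ.τ₁ := inferInstanceAs (Epi (𝟙 (K.cycles n)))
    haveI : IsIso φ.τ₂ := inferInstanceAs (IsIso (𝟙 (K.X n)))
    haveI : Mono φ.τ₃ := inferInstanceAs (Mono (K.iCycles (n + 1)))
    exact { exact := (ShortComplex.exact_iff_of_epi_of_isIso_of_mono φ).2 hker
            mono_f := inferInstanceAs (Mono (K.iCycles n))
            epi_g := he }

lemma ofComplex_d (K : CochainComplex A ℕ) (h : ∀ n, K.ExactAt (n + 1)) (n : ℕ) :
    (ofComplex K h).d n = K.d n (n + 1) := K.toCycles_i n (n + 1)

/-- The tower of an injective resolution. -/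
noncomputable abbrev ofRes {F : A} (R : InjectiveResolution F) : Tower A :=
  ofComplex R.cocomplex R.cocomplex_exactAt_succ

variable {B : Type u'} [Category.{v'} B] [Abelian B] (Φ : A ⥤ B) [Φ.Additive] [PreservesFiniteLimits Φ]
  [PreservesFiniteColimits Φ]

/-- A map of complexes gives a morphism of towers of cycles. -/
noncomputable def homOfChain (K : CochainComplex A ℕ) (h : ∀ n, K.ExactAt (n + 1)) (L : CochainComplex B ℕ)
    (h' : ∀ n, L.ExactAt (n + 1)) (χ : (Φ.mapHomologicalComplex (ComplexShape.up ℕ)).obj K ⟶ L) :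
    Hom ((ofComplex K h).map Φ) (ofComplex L h') where
  z n := L.liftCycles (Φ.map (K.iCycles n) ≫ χ.f n) (n + 1) (CochainComplex.next ℕ n) (by
    have hc := χ.comm n (n + 1)
    simp only [Functor.mapHomologicalComplex_obj_d] at hc
    rw [Category.assoc, hc, ← Φ.map_comp_assoc, K.iCycles_d, Φ.map_zero, zero_comp])
  k n := χ.f n
  hi n := (L.liftCycles_i _ _ _ _).symm
  hp n := by
    show Φ.map (K.toCycles n (n + 1)) ≫ _ = χ.f n ≫ L.toCycles n (n + 1)
    have hc := χ.comm n (n + 1)
    simp only [Functor.mapHomologicalComplex_obj_d] at hc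
    rw [← cancel_mono (L.iCycles (n + 1)), Category.assoc, L.liftCycles_i, Category.assoc, L.toCycles_i, hc,
      ← Φ.map_comp_assoc, K.toCycles_i]

lemma homOfChain_k (K : CochainComplex A ℕ) (h : ∀ n, K.ExactAt (n + 1)) (L : CochainComplex B ℕ)
    (h' : ∀ n, L.ExactAt (n + 1)) (χ : (Φ.mapHomologicalComplex (ComplexShape.up ℕ)).obj K ⟶ L) (n : ℕ) :
    (homOfChain Φ K h L h' χ).k n = χ.f n := rfl

/-- The augmentation. -/
noncomputable def aug {F : A} (R : InjectiveResolution F) : F ⟶ (ofRes R).Z 0 :=
  R.cocomplex.liftCycles (R.ι.f 0) 1 (CochainComplex.next ℕ 0) R.ι_f_zero_comp_complex_d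

lemma aug_i {F : A} (R : InjectiveResolution F) : aug R ≫ (ofRes R).i 0 = R.ι.f 0 := R.cocomplex.liftCycles_i _ _ _ _

instance isIso_aug {F : A} (R : InjectiveResolution F) : IsIso (aug R) := by
  haveI : Mono (aug R) := mono_of_mono_fac (aug_i R)
  have h := R.exact₀
  haveI : Epi (aug R) := by
    refine Preadditive.epi_of_cancel_zero _ fun {W} g hg => ?_
    haveI : Mono (ShortComplex.mk (R.ι.f 0) (R.cocomplex.d 0 1) R.ι_f_zero_comp_complex_d).f :=
      inferInstanceAs (Mono (R.ι.f 0))
    let l : R.cocomplex.cycles 0 ⟶ F := h.lift (R.cocomplex.iCycles 0) (R.cocomplex.iCycles_d 0 1)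
    have hl : l ≫ aug R = 𝟙 _ := by
      rw [← cancel_mono (R.cocomplex.iCycles 0), Category.assoc, Category.id_comp]
      exact (congrArg (l ≫ ·) (aug_i R)).trans (h.lift_f _ _)
    calc g = (l ≫ aug R) ≫ g := by rw [hl, Category.id_comp]
      _ = 0 := by rw [Category.assoc, hg, comp_zero]
  exact isIso_of_mono_of_epi _

end Tower

end Groth.Agent.StalkCrit24
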