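import Groth.Agent.Lib.StrictLim24.Main

/-!
# Stalks of direct images at geometric points over the closed point of a strict localization
-/

set_option autoImplicit false
set_option linter.style.haveILetI false
set_option linter.unusedSectionVars false
set_option backward.isDefEq.respectTransparency.types false

universe u

open CategoryTheory CategoryTheory.Limits AlgebraicGeometry Opposite
open scoped TensorProduct

namespace Groth.Agent.StalkCrit24

open Groth.Agent.EtStalk Groth.Agent.StrictLim24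

section Algebra

variable {κ : Type u} [Field κ] [IsSepClosed κ]

/-- Points of an etale algebra over a separably closed field are rational. -/
theorem mem_range_of_etale {A : Type u} [CommRing A] [Algebra κ A] [Algebra.Etale κ A] {Ω : Type u} [Field Ω]
    [Algebra κ Ω] (b : A →ₐ[κ] Ω) (x : A) : b x ∈ Set.range (algebraMap κ Ω) := by
  obtain ⟨I, hI, Ai, _, _, e, he⟩ := (Algebra.Etale.iff_exists_algEquiv_prod κ A).1 inferInstance
  haveI := Fintype.ofFinite I
  have hs : ∀ i, ∃ c : κ, algebraMap κ (Ai i) c = e x i := fun i => by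
    haveI := (he i).2
    exact IsSepClosed.algebraMap_surjective κ (Ai i) (e x i)
  choose c hc using hs
  have h0 : ∏ i, (x - algebraMap κ A (c i)) = 0 := by
    refine e.injective ?_
    rw [map_prod, map_zero]
    funext j
    rw [Finset.prod_apply]
    exact Finset.prod_eq_zero (Finset.mem_univ j) (by simp [hc])
  have h1 : ∏ i, (b x - algebraMap κ Ω (c i)) = 0 := by
    have := congrArg b h0
    simpa using this
  obtain ⟨i, -, hi⟩ := Finset.prod_eq_zero_iff.1 h1
  exact ⟨c i, (sub_eq_zero.1 hi).symm⟩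

end Algebra

variable {R : Type u} [CommRing R] [HenselianLocalRing R] [IsSepClosed (IsLocalRing.ResidueField R)]
  {Ω : Type u} [Field Ω] [IsSepClosed Ω] (ρ : IsLocalRing.ResidueField R →+* Ω)

/-- A geometric point over the closed point. -/
noncomputable abbrev geo : Spec (CommRingCat.of Ω) ⟶ Spec (CommRingCat.of R) :=
  Spec.map (CommRingCat.ofHom ρ) ≫ closedPt R

/-- Points of etale schemes over a strict localization descend to the residue field. -/
theorem exists_residue_point {U : (Spec (CommRingCat.of R)).Etale} (φ : fib (geo ρ) U) :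
    ∃ φ₀ : fib (closedPt R) U, Spec.map (CommRingCat.ofHom ρ) ≫ φ₀.left = φ.left := by
  let φl : Spec (CommRingCat.of Ω) ⟶ U.left := φ.left
  have hw : φl ≫ U.hom = geo ρ := Over.w φ
  obtain ⟨E, j, hj, hmem, -⟩ := Scheme.exists_affine_mem_range_and_range_subset
    (x := φl default) (U := ⊤) (Set.mem_univ _)
  have hsub : Set.range φl ⊆ Set.range j := by
    rintro _ ⟨a, rfl⟩
    rwa [Subsingleton.elim a default]
  let ψ : Spec (CommRingCat.of Ω) ⟶ Spec E := IsOpenImmersion.lift j φl hsub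
  have hψ : ψ ≫ j = φl := IsOpenImmersion.lift_fac _ _ _
  obtain ⟨a, ha⟩ := Spec.map_surjective (j ≫ U.hom)
  obtain ⟨b, hb⟩ := Spec.map_surjective ψ
  letI : Algebra R E := a.hom.toAlgebra
  haveI : AlgebraicGeometry.Etale U.hom := U.prop
  haveI : AlgebraicGeometry.Etale (Spec.map a) := by rw [ha]; infer_instance
  haveI : Algebra.Etale R E := HasRingHomProperty.Spec_iff.1 this
  have hab : a ≫ b = CommRingCat.ofHom (ρ.comp (IsLocalRing.residue R)) := Spec.map_injective (by
    rw [Spec.map_comp, hb, ha, reassoc_of% hψ, hw, CommRingCat.ofHom_comp, Spec.map_comp])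
  letI : Algebra (IsLocalRing.ResidueField R) Ω := ρ.toAlgebra
  letI : Algebra R Ω := (ρ.comp (IsLocalRing.residue R)).toAlgebra
  haveI : IsScalarTower R (IsLocalRing.ResidueField R) Ω := IsScalarTower.of_algebraMap_eq fun _ => rfl
  let bA : E →ₐ[R] Ω := { b.hom with commutes' := fun r => congrArg (fun t => t.hom r) hab }
  let B : (IsLocalRing.ResidueField R) ⊗[R] E →ₐ[IsLocalRing.ResidueField R] Ω :=
    Algebra.TensorProduct.lift (Algebra.ofId _ Ω) bA fun _ _ => Commute.all _ _
  have hrange : ∀ z : E, b.hom z ∈ Set.range ρ := fun z => by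
    obtain ⟨k, hk⟩ := mem_range_of_etale B (1 ⊗ₜ[R] z)
    refine ⟨k, hk.trans ?_⟩
    show B (1 ⊗ₜ[R] z) = bA z
    rw [Algebra.TensorProduct.lift_tmul, map_one, one_mul]
  choose t ht using hrange
  let b₀ : E →+* IsLocalRing.ResidueField R :=
    { toFun := t
      map_one' := ρ.injective (by rw [ht, map_one, map_one])
      map_mul' := fun x y => ρ.injective (by rw [map_mul, ht, ht, ht, map_mul])
      map_zero' := ρ.injective (by rw [ht, map_zero, map_zero])
      map_add' := fun x y => ρ.injective (by rw [map_add, ht, ht, ht, map_add]) }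
  have hb₀ : CommRingCat.ofHom b₀ ≫ CommRingCat.ofHom ρ = b := CommRingCat.hom_ext (RingHom.ext ht)
  have hab₀ : a ≫ CommRingCat.ofHom b₀ = CommRingCat.ofHom (IsLocalRing.residue R) :=
    CommRingCat.hom_ext (RingHom.ext fun r => ρ.injective ((ht _).trans (congrArg (fun t => t.hom r) hab)))
  refine ⟨Over.homMk (Spec.map (CommRingCat.ofHom b₀) ≫ j) ?_, ?_⟩
  · change (_ ≫ j) ≫ U.hom = closedPt R
    rw [Category.assoc, ← ha, ← Spec.map_comp, hab₀]
  · change Spec.map _ ≫ Spec.map (CommRingCat.ofHom b₀) ≫ j = φl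
    rw [← Spec.map_comp_assoc, hb₀, hb, hψ]

variable {S : Scheme.{u}} (σ : Spec (CommRingCat.of R) ⟶ S)

/-- Elements of the fibre extend to the strict localization. -/
theorem exists_lift_geo (V : S.Etale) (v : fib (geo ρ ≫ σ) V) :
    ∃ l : Spec (CommRingCat.of R) ⟶ V.left, l ≫ V.hom = σ ∧ geo ρ ≫ l = v.left := by
  obtain ⟨φ₀, hφ₀⟩ := exists_residue_point ρ (liftFib σ (geo ρ) v)
  obtain ⟨τ, hτ⟩ := exists_section R φ₀
  refine ⟨τ.left ≫ pullback.fst V.hom σ, ?_, ?_⟩
  · exact (EtLim24.left_fst_hom τ).trans (Category.id_comp σ)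
  · have h : closedPt R ≫ τ.left = φ₀.left :=
      congrArg (fun r : fib (closedPt R) ((EtCoh.bc σ).obj V) => r.left) hτ
    refine (Category.assoc _ _ _).trans ?_
    refine (congrArg (Spec.map (CommRingCat.ofHom ρ) ≫ ·) ((Category.assoc _ _ _).symm.trans
      (congrArg (· ≫ pullback.fst V.hom σ) h))).trans ?_
    refine (Category.assoc _ _ _).symm.trans ((congrArg (· ≫ pullback.fst V.hom σ) hφ₀).trans ?_)
    exact pullback.lift_fst _ _ _

/-- Such extensions are unique. -/
theorem lift_unique_geo (V : S.Etale) (l l' : Spec (CommRingCat.of R) ⟶ V.left) (hl : l ≫ V.hom = σ)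
    (hl' : l' ≫ V.hom = σ) (h : geo ρ ≫ l = geo ρ ≫ l') : l = l' := by
  haveI : Flat (Spec.map (CommRingCat.ofHom ρ)) := inferInstance
  haveI : Surjective (Spec.map (CommRingCat.ofHom ρ)) := inferInstance
  haveI : Epi (Spec.map (CommRingCat.ofHom ρ)) := inferInstance
  refine lift_unique σ V l l' hl hl' ((cancel_epi (Spec.map (CommRingCat.ofHom ρ))).1 ?_)
  simpa only [Category.assoc] using h

/-- The element of the fibre of a map from the strict localization. -/
noncomputable def fibOf {V : S.Etale} (l : Spec (CommRingCat.of R) ⟶ V.left) (hl : l ≫ V.hom = σ) :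
    fib (geo ρ ≫ σ) V :=
  Over.homMk (geo ρ ≫ l) ((Category.assoc _ _ _).trans (congrArg (geo ρ ≫ ·) hl))

variable {X : Scheme.{u}} (f : X ⟶ S)

/-- The point of a base change given by a map from the strict localization. -/
noncomputable def yOf {V : S.Etale} (l : Spec (CommRingCat.of R) ⟶ V.left) (hl : l ≫ V.hom = σ) :
    pullback f σ ⟶ ((EtCoh.bc f).obj V).left :=
  pullback.lift (pullback.snd f σ ≫ l) (pullback.fst f σ)
    (by rw [Category.assoc, hl]; exact pullback.condition.symm)

lemma yOf_hom {V : S.Etale} (l : Spec (CommRingCat.of R) ⟶ V.left) (hl : l ≫ V.hom = σ) :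
    yOf σ f l hl ≫ ((EtCoh.bc f).obj V).hom = pullback.fst f σ := pullback.lift_snd _ _ _

variable [QuasiCompact f] [QuasiSeparated f] (T : StrictSys σ)

include T in
/-- The stalk of a direct image is given by the sections over the strict localization. -/
theorem exists_eval (F : EtCoh.Ab X) :
    ∃ e : (EtCoh.stalk (geo ρ ≫ σ)).obj ((EtCoh.push f).obj F) ≅
      ((EtCoh.pull (pullback.fst f σ)).obj F).obj.obj (op (EtCoh.top (pullback f σ))),
      ∀ (V : S.Etale) (l : Spec (CommRingCat.of R) ⟶ V.left) (hl : l ≫ V.hom = σ)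
        (s : F.obj.obj (op ((EtCoh.bc f).obj V))),
        e.hom (germ (geo ρ ≫ σ) ((EtCoh.push f).obj F) (fibOf ρ σ l hl) s) =
          sec (pullback.fst f σ) F ((EtCoh.bc f).obj V) (yOf σ f l hl) (yOf_hom σ f l hl) s := by
  let a : ∀ i : T.ι, T.M f F i ⟶ (EtCoh.stalk (geo ρ ≫ σ)).obj ((EtCoh.push f).obj F) := fun i =>
    germ (geo ρ ≫ σ) ((EtCoh.push f).obj F) (fibOf ρ σ (V := T.W.obj (op i)) (T.π.app (op i)) (T.hπ i))
  have hmap : ∀ {V V' : S.Etale} (g : V' ⟶ V) (l : Spec (CommRingCat.of R) ⟶ V'.left) (hl : l ≫ V'.hom = σ)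
      (l' : Spec (CommRingCat.of R) ⟶ V.left) (hl' : l' ≫ V.hom = σ), l ≫ g.left = l' →
      (Scheme.pointSmallEtale (geo ρ ≫ σ)).fiber.map g (fibOf ρ σ l hl) = fibOf ρ σ l' hl' := by
    intro V V' g l hl l' hl' h
    refine Over.OverMorphism.ext ?_
    exact (Category.assoc _ _ _).trans (congrArg (geo ρ ≫ ·) h)
  have hy : ∀ {V V' : S.Etale} (g : V' ⟶ V) (l : Spec (CommRingCat.of R) ⟶ V'.left) (hl : l ≫ V'.hom = σ)
      (l' : Spec (CommRingCat.of R) ⟶ V.left) (hl' : l' ≫ V.hom = σ), l ≫ g.left = l' →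
      yOf σ f l hl ≫ ((EtCoh.bc f).map g).left = yOf σ f l' hl' := by
    intro V V' g l hl l' hl' h
    refine pullback.hom_ext ?_ ?_
    · refine (Category.assoc _ _ _).trans ?_
      refine (congrArg (yOf σ f l hl ≫ ·) (EtCoh.isPullback_bc_map f g).w).trans ?_
      refine (Category.assoc _ _ _).symm.trans ?_
      refine (congrArg (· ≫ g.left) (pullback.lift_fst _ _ _)).trans ?_
      refine (Category.assoc _ _ _).trans ?_
      exact (congrArg (pullback.snd f σ ≫ ·) h).trans (pullback.lift_fst _ _ _).symm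
    · refine (Category.assoc _ _ _).trans ?_
      refine (congrArg (yOf σ f l hl ≫ ·) (MorphismProperty.Over.w ((EtCoh.bc f).map g))).trans ?_
      exact (yOf_hom σ f l hl).trans (yOf_hom σ f l' hl').symm
  have hyl : ∀ i, yOf σ f (V := T.W.obj (op i)) (T.π.app (op i)) (T.hπ i) = T.yl f i := fun i =>
    pullback.hom_ext ((pullback.lift_fst _ _ _).trans (T.yl_fst f i).symm)
      ((yOf_hom σ f _ (T.hπ i)).trans (T.yl_hom f i).symm)
  have hTr : ∀ ⦃i j : T.ι⦄ (h : i ≤ j), T.Tr f F h ≫ a j = a i := by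
    intro i j h
    refine AddCommGrpCat.ext fun x => ?_
    refine (germ_map (geo ρ ≫ σ) ((EtCoh.push f).obj F) (T.W.map (homOfLE h).op) _ x).trans ?_
    rw [hmap (T.W.map (homOfLE h).op) (T.π.app (op j)) (T.hπ j) (T.π.app (op i)) (T.hπ i)
      ((T.π.naturality (homOfLE h).op).symm.trans (Category.id_comp _))]
    rfl
  have hsurj : ∀ p, ∃ i x, a i x = p := by
    intro p
    obtain ⟨V, v, s, rfl⟩ := germ_surjective (geo ρ ≫ σ) ((EtCoh.push f).obj F) p
    obtain ⟨l, hl, hlv⟩ := exists_lift_geo ρ σ V v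
    obtain ⟨j, m, hm⟩ := T.exists_stage_map V l hl
    refine ⟨j, ((EtCoh.push f).obj F).obj.map m.op s, ?_⟩
    refine (germ_map (geo ρ ≫ σ) ((EtCoh.push f).obj F) m _ s).trans ?_
    rw [hmap m (T.π.app (op j)) (T.hπ j) l hl hm]
    exact congrArg (fun r => germ (geo ρ ≫ σ) ((EtCoh.push f).obj F) r s) (Over.OverMorphism.ext hlv)
  have hker : ∀ i x, a i x = 0 ↔ T.gb f F i x = 0 := by
    intro i x
    constructor
    · intro hx
      obtain ⟨V, g, v, hv, he⟩ := (germ_eq_iff (geo ρ ≫ σ) ((EtCoh.push f).obj F) _ x 0).1 (by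
        rw [map_zero]; exact hx)
      obtain ⟨l, hl, hlv⟩ := exists_lift_geo ρ σ V v
      have hlg : l ≫ g.left = T.π.app (op i) := by
        refine lift_unique_geo ρ σ (T.W.obj (op i)) _ _ ?_ (T.hπ i) ?_
        · exact (Category.assoc _ _ _).trans ((congrArg (l ≫ ·) (MorphismProperty.Over.w g)).trans hl)
        · refine (Category.assoc _ _ _).symm.trans ((congrArg (· ≫ g.left) hlv).trans ?_)
          exact congrArg (fun r : fib (geo ρ ≫ σ) (T.W.obj (op i)) => r.left) hv
      refine (sec_map (pullback.fst f σ) F ((EtCoh.bc f).map g) (yOf σ f l hl) (yOf_hom σ f l hl) (T.yl f i)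
        (T.yl_hom f i) ((hy g l hl _ (T.hπ i) hlg).trans (hyl i)) x).symm.trans ?_
      rw [show F.obj.map ((EtCoh.bc f).map g).op x = 0 from he.trans (map_zero _)]
      exact map_zero _
    · intro hx
      obtain ⟨j, h, hj⟩ := T.gb_inj f F i x hx
      rw [← ConcreteCategory.congr_hom (hTr h) x]
      exact (congrArg (a j) hj).trans (map_zero _)
  obtain ⟨e, he⟩ := exists_iso_of_reps (T.M f F) (T.Tr f F) a (T.gb f F) hTr
    (fun _ _ h => T.gb_Tr f F h) hsurj (T.gb_surj f F) hker
  refine ⟨e, fun V l hl s => ?_⟩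
  obtain ⟨j, m, hm⟩ := T.exists_stage_map V l hl
  let s' := ((EtCoh.push f).obj F).obj.map m.op s
  have h1 : a j s' = germ (geo ρ ≫ σ) ((EtCoh.push f).obj F) (fibOf ρ σ l hl) s := by
    refine (germ_map (geo ρ ≫ σ) ((EtCoh.push f).obj F) m _ s).trans ?_
    rw [hmap m (T.π.app (op j)) (T.hπ j) l hl hm]
  rw [← h1]
  refine (ConcreteCategory.congr_hom (he j) s').trans ?_
  exact sec_map (pullback.fst f σ) F ((EtCoh.bc f).map m) (T.yl f j) (T.yl_hom f j) (yOf σ f l hl)
    (yOf_hom σ f l hl) ((congrArg (· ≫ _) (hyl j).symm).trans (hy m _ (T.hπ j) l hl hm)) s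

end Groth.Agent.StalkCrit24
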