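import Groth.Agent.Lib.StalkCrit24.Sections
import Groth.Agent.Lib.EtStalk.FiniteBC

/-!
# The base change map on stalks at a geometric point
-/

set_option autoImplicit false
set_option linter.style.haveILetI false
set_option linter.unusedSectionVars false
set_option backward.isDefEq.respectTransparency false
set_option backward.isDefEq.respectTransparency.types false

universe u

open CategoryTheory CategoryTheory.Limits AlgebraicGeometry Opposite

namespace Groth.Agent.StalkCrit24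

open Groth.Agent.EtStalk Groth.Agent.StrictLim24

lemma comp_app_inv {𝒞 𝒟 : Type*} [Category 𝒞] [Category 𝒟] {P Q R : 𝒞 ⥤ 𝒟} (a : Q ⟶ P) (b : P ≅ R) (F : 𝒞) :
    (a ≫ b.hom).app F ≫ b.inv.app F = a.app F := by simp

section SqPull

variable {A B C D : Scheme.{u}} (m : A ⟶ B) (a : B ⟶ D) (p : A ⟶ C) (e : C ⟶ D) (hm : m ≫ a = p ≫ e)

/-- The comparison of inverse images around a square. -/
noncomputable def sqPull : EtCoh.pull a ⋙ EtCoh.pull m ⟶ EtCoh.pull e ⋙ EtCoh.pull p :=
  (EtLim24.pullT m a (p ≫ e) hm).inv ≫ (EtLim24.pullT p e (p ≫ e) rfl).hom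

instance isIso_sqPull : IsIso (sqPull m a p e hm) := by
  delta sqPull
  infer_instance

lemma sqPull_comp (F : EtCoh.Ab D) :
    (sqPull m a p e hm).app F ≫ (EtLim24.pullT p e (p ≫ e) rfl).inv.app F =
      (EtLim24.pullT m a (p ≫ e) hm).inv.app F :=
  comp_app_inv (EtLim24.pullT m a (p ≫ e) hm).inv (EtLim24.pullT p e (p ≫ e) rfl) F

lemma sec_sqPull (F : EtCoh.Ab D) (P : D.Etale) (ya : B ⟶ P.left) (hya : ya ≫ P.hom = a)
    (y : A ⟶ ((EtCoh.bc e).obj P).left) (hy : y ≫ ((EtCoh.bc e).obj P).hom = p)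
    (hfst : y ≫ pullback.fst P.hom e = m ≫ ya) (s : F.obj.obj (op P)) :
    sec p ((EtCoh.pull e).obj F) ((EtCoh.bc e).obj P) y hy (((EtCoh.pullPushAdj e).unit.app F).hom.app (op P) s) =
      trSec m ((sqPull m a p e hm).app F) (sec a F P ya hya s) := by
  have hyA : (m ≫ ya) ≫ P.hom = p ≫ e := by rw [Category.assoc, hya, hm]
  have hyT : (y ≫ pullback.fst P.hom e) ≫ P.hom = p ≫ e := by rw [hfst]; exact hyA
  refine (ConcreteCategory.bijective_of_isIso
    (((EtLim24.pullT p e (p ≫ e) rfl).inv.app F).hom.app (op (EtCoh.top A)))).1 ?_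
  refine (sec_unit p e _ rfl F P y hy hyT s).trans ?_
  refine Eq.trans ?_ (trSec_comp m ((sqPull m a p e hm).app F) ((EtLim24.pullT p e (p ≫ e) rfl).inv.app F)
    (sec a F P ya hya s))
  rw [sqPull_comp m a p e hm F]
  refine Eq.trans ?_ (sec_trans m a (p ≫ e) hm F P ya hya hyA s).symm
  simp only [hfst]

end SqPull

section Eval

variable {R : Type u} [CommRing R] [HenselianLocalRing R] [IsSepClosed (IsLocalRing.ResidueField R)]
  {Ω : Type u} [Field Ω] [IsSepClosed Ω] (ρ : IsLocalRing.ResidueField R →+* Ω)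
  {S X : Scheme.{u}} (σ : Spec (CommRingCat.of R) ⟶ S) (f : X ⟶ S)
  (ξ : Spec (CommRingCat.of Ω) ⟶ S) (hξ : geo ρ ≫ σ = ξ)

/-- A map from the stalk of a direct image to the sections over the strict localization is the canonical one. -/
structure IsEval (F : EtCoh.Ab X) (e : (EtCoh.stalk ξ).obj ((EtCoh.push f).obj F) →+
    ((EtCoh.pull (pullback.fst f σ)).obj F).obj.obj (op (EtCoh.top (pullback f σ)))) : Prop where
  bij : Function.Bijective e
  spec : ∀ (V : S.Etale) (l : Spec (CommRingCat.of R) ⟶ V.left) (hl : l ≫ V.hom = σ) (v : fib ξ V),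
    v.left = geo ρ ≫ l → ∀ s : F.obj.obj (op ((EtCoh.bc f).obj V)),
      e (germ ξ ((EtCoh.push f).obj F) v s) =
        sec (pullback.fst f σ) F ((EtCoh.bc f).obj V) (yOf σ f l hl) (yOf_hom σ f l hl) s

include hξ in
theorem exists_isEval [QuasiCompact f] [QuasiSeparated f] (T : StrictSys σ) (F : EtCoh.Ab X) :
    ∃ e, IsEval ρ σ f ξ F e := by
  subst hξ
  obtain ⟨e, he⟩ := exists_eval ρ σ f T F
  refine ⟨e.hom.hom, ⟨ConcreteCategory.bijective_of_isIso e.hom, fun V l hl v hv s => ?_⟩⟩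
  obtain rfl : v = fibOf ρ σ l hl := Over.OverMorphism.ext hv
  exact he V l hl s

include hξ in
lemma exists_germ (F : EtCoh.Ab S) (p : (EtCoh.stalk ξ).obj F) :
    ∃ (V : S.Etale) (l : Spec (CommRingCat.of R) ⟶ V.left) (_ : l ≫ V.hom = σ) (v : fib ξ V) (s : F.obj.obj (op V)),
      v.left = geo ρ ≫ l ∧ germ ξ F v s = p := by
  subst hξ
  obtain ⟨V, v, s, rfl⟩ := germ_surjective (geo ρ ≫ σ) F p
  obtain ⟨l, hl, hlv⟩ := exists_lift_geo ρ σ V v
  exact ⟨V, l, hl, v, s, hlv.symm, rfl⟩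

include hξ in
lemma IsEval.naturality {F G : EtCoh.Ab X} {e : _} {e' : _} (he : IsEval ρ σ f ξ F e) (he' : IsEval ρ σ f ξ G e')
    (a : F ⟶ G) (p : (EtCoh.stalk ξ).obj ((EtCoh.push f).obj F)) :
    e' ((EtCoh.stalk ξ).map ((EtCoh.push f).map a) p) =
      ((EtCoh.pull (pullback.fst f σ)).map a).hom.app (op (EtCoh.top (pullback f σ))) (e p) := by
  obtain ⟨V, l, hl, v, s, hv, rfl⟩ := exists_germ ρ σ ξ hξ ((EtCoh.push f).obj F) p
  rw [he.spec V l hl v hv s, sec_nat, germ_nat]
  exact he'.spec V l hl v hv (a.hom.app (op ((EtCoh.bc f).obj V)) s)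

end Eval

section Square

variable {X S Y T : Scheme.{u}} (f : X ⟶ S) (g : T ⟶ S) (h : Y ⟶ X) (e : Y ⟶ T) (w : e ≫ g = h ≫ f)
  {RS RX : Type u} [CommRing RS] [CommRing RX] [HenselianLocalRing RS] [HenselianLocalRing RX]
  [IsSepClosed (IsLocalRing.ResidueField RS)] [IsSepClosed (IsLocalRing.ResidueField RX)]
  (σS : Spec (CommRingCat.of RS) ⟶ S) (σX : Spec (CommRingCat.of RX) ⟶ X) (ψ : RS →+* RX) [IsLocalHom ψ]
  (hψ : Spec.map (CommRingCat.ofHom ψ) ≫ σS = σX ≫ f)

/-- The geometric point of `X`. -/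
noncomputable abbrev ptX : Spec (CommRingCat.of (IsLocalRing.ResidueField RX)) ⟶ X := closedPt RX ≫ σX

omit [IsSepClosed (IsLocalRing.ResidueField RS)] [IsSepClosed (IsLocalRing.ResidueField RX)] in
lemma geo_residueMap : geo (IsLocalRing.ResidueField.map ψ) = closedPt RX ≫ Spec.map (CommRingCat.ofHom ψ) := by
  show Spec.map _ ≫ Spec.map _ = Spec.map _ ≫ Spec.map _
  rw [← Spec.map_comp, ← Spec.map_comp]
  rfl

omit [IsSepClosed (IsLocalRing.ResidueField RS)] [IsSepClosed (IsLocalRing.ResidueField RX)] in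
lemma geo_id : geo (R := RX) (RingHom.id (IsLocalRing.ResidueField RX)) = closedPt RX := by
  rw [geo, CommRingCat.ofHom_id, Spec.map_id, Category.id_comp]

include hψ in
lemma geo_ptX : geo (IsLocalRing.ResidueField.map ψ) ≫ σS = ptX σX ≫ f := by
  rw [geo_residueMap, Category.assoc, Category.assoc, hψ]

lemma geo_ptX' : geo (R := RX) (RingHom.id (IsLocalRing.ResidueField RX)) ≫ σX = ptX σX := by rw [geo_id]

include w hψ in
lemma mMap_condition : (pullback.fst h σX ≫ e) ≫ g = (pullback.snd h σX ≫ Spec.map (CommRingCat.ofHom ψ)) ≫ σS := by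
  rw [Category.assoc, w, Category.assoc, hψ, ← Category.assoc, pullback.condition, Category.assoc]

/-- The map of strict localizations. -/
noncomputable def mMap : pullback h σX ⟶ pullback g σS :=
  pullback.lift (pullback.fst h σX ≫ e) (pullback.snd h σX ≫ Spec.map (CommRingCat.ofHom ψ))
    (mMap_condition f g h e w σS σX ψ hψ)

lemma mMap_fst : mMap f g h e w σS σX ψ hψ ≫ pullback.fst g σS = pullback.fst h σX ≫ e := pullback.lift_fst _ _ _

lemma sq_germ (F : EtCoh.Ab T) (G : EtCoh.Ab Y) (d : (EtCoh.pull e).obj F ⟶ G) {eX : _}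
    (hX : IsEval (RingHom.id (IsLocalRing.ResidueField RX)) σX h (ptX σX) G eX)
    (V : S.Etale) (l : Spec (CommRingCat.of RS) ⟶ V.left) (hl : l ≫ V.hom = σS) (v : fib (ptX σX ≫ f) V)
    (hv : v.left = geo (IsLocalRing.ResidueField.map ψ) ≫ l) (s : F.obj.obj (op ((EtCoh.bc g).obj V))) :
    eX ((EtCoh.stalk (ptX σX)).map (EtCoh.baseChange0 g f h e w F ≫ (EtCoh.push h).map d)
        (stalkPull f (ptX σX) ((EtCoh.push g).obj F) (germ (ptX σX ≫ f) ((EtCoh.push g).obj F) v s))) =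
      trSec (mMap f g h e w σS σX ψ hψ)
        ((sqPull (mMap f g h e w σS σX ψ hψ) (pullback.fst g σS) (pullback.fst h σX) e
        (mMap_fst f g h e w σS σX ψ hψ)).app F ≫ (EtCoh.pull (pullback.fst h σX)).map d)
        (sec (pullback.fst g σS) F ((EtCoh.bc g).obj V) (yOf σS g l hl) (yOf_hom σS g l hl) s) := by
  let V' := (EtCoh.bc f).obj V
  have hlX0 : (Spec.map (CommRingCat.ofHom ψ) ≫ l) ≫ V.hom = σX ≫ f := by rw [Category.assoc, hl, hψ]
  let lX : Spec (CommRingCat.of RX) ⟶ V'.left := pullback.lift (Spec.map (CommRingCat.ofHom ψ) ≫ l) σX hlX0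
  have hlX : lX ≫ V'.hom = σX := pullback.lift_snd _ _ _
  let v' := liftFib f (ptX σX) v
  have hv' : v'.left = geo (R := RX) (RingHom.id (IsLocalRing.ResidueField RX)) ≫ lX := by
    rw [geo_id]
    refine pullback.hom_ext ?_ ?_
    · refine (pullback.lift_fst _ _ _).trans (hv.trans ?_)
      rw [geo_residueMap, Category.assoc]
      refine Eq.trans ?_ (Category.assoc _ _ _).symm
      exact congrArg (closedPt RX ≫ ·) (pullback.lift_fst (Spec.map (CommRingCat.ofHom ψ) ≫ l) σX hlX0).symm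
    · refine (pullback.lift_snd _ _ _).trans ?_
      refine Eq.trans ?_ (Category.assoc _ _ _).symm
      exact congrArg (closedPt RX ≫ ·) hlX.symm
  rw [germ_stalkPull, germ_nat]
  refine (hX.spec V' lX hlX v' hv' _).trans ?_
  let y' := yOf σX h lX hlX
  let P := (EtCoh.bc g).obj V
  let y'' := y' ≫ (sqHom g f h e w V).left
  have hy'' : y'' ≫ ((EtCoh.bc e).obj P).hom = pullback.fst h σX :=
    (Category.assoc _ _ _).trans ((congrArg (y' ≫ ·) (MorphismProperty.Over.w (sqHom g f h e w V))).trans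
      (yOf_hom σX h lX hlX))
  let yS := yOf σS g l hl
  have hyS : (mMap f g h e w σS σX ψ hψ ≫ yS) ≫ P.hom = pullback.fst h σX ≫ e := by
    refine (Category.assoc _ _ _).trans ((congrArg (_ ≫ ·) (yOf_hom σS g l hl)).trans ?_)
    exact mMap_fst f g h e w σS σX ψ hψ
  have hfst : y'' ≫ pullback.fst P.hom e = mMap f g h e w σS σX ψ hψ ≫ yS := by
    refine pullback.hom_ext ?_ ?_
    · refine (Category.assoc _ _ _).trans ((Category.assoc _ _ _).trans ?_)
      refine (congrArg (y' ≫ ·) (sqHom_fst g f h e w V)).trans ?_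
      refine (Category.assoc _ _ _).symm.trans ?_
      refine (congrArg (· ≫ bcFst f V) (pullback.lift_fst _ _ _)).trans ?_
      refine (Category.assoc _ _ _).trans ?_
      refine (congrArg (pullback.snd h σX ≫ ·) (pullback.lift_fst _ _ _)).trans ?_
      refine Eq.trans ?_ (Category.assoc _ _ _).symm
      refine Eq.trans ?_ (congrArg (mMap f g h e w σS σX ψ hψ ≫ ·) (pullback.lift_fst _ _ _)).symm
      refine Eq.trans ?_ (Category.assoc _ _ _)
      rw [mMap, pullback.lift_snd, Category.assoc]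
    · refine Eq.trans ?_ hyS.symm
      refine (congrArg (· ≫ _) rfl).trans ?_
      refine (Category.assoc _ _ _).trans ?_
      refine (congrArg (y'' ≫ ·) pullback.condition).trans ?_
      exact (Category.assoc _ _ _).symm.trans (congrArg (· ≫ e) hy'')
  have hyT : (y'' ≫ pullback.fst P.hom e) ≫ P.hom = pullback.fst h σX ≫ e := by rw [hfst]; exact hyS
  have hbc := baseChange0_germ g f h e w F (W := V) s
  let a := ((EtCoh.pullPushAdj e).unit.app F).hom.app (op P) s
  have hleft : (EtCoh.baseChange0 g f h e w F ≫ (EtCoh.push h).map d).hom.app (op V')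
      (((EtCoh.pullPushAdj f).unit.app ((EtCoh.push g).obj F)).hom.app (op V) s) =
      d.hom.app (op ((EtCoh.bc h).obj V')) (((EtCoh.pull e).obj F).obj.map (sqHom g f h e w V).op a) :=
    congrArg (d.hom.app (op ((EtCoh.bc h).obj V'))) hbc
  refine (congrArg (sec (pullback.fst h σX) G ((EtCoh.bc h).obj V') y' (yOf_hom σX h lX hlX)) hleft).trans ?_
  rw [← sec_nat]
  erw [sec_map (pullback.fst h σX) ((EtCoh.pull e).obj F) (sqHom g f h e w V) y' (yOf_hom σX h lX hlX) y'' hy'' rfl a]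
  rw [trSec_comp]
  refine congrArg (((EtCoh.pull (pullback.fst h σX)).map d).hom.app (op (EtCoh.top (pullback h σX)))) ?_
  exact sec_sqPull (mMap f g h e w σS σX ψ hψ) (pullback.fst g σS) (pullback.fst h σX) e
    (mMap_fst f g h e w σS σX ψ hψ) F ((EtCoh.bc g).obj V) (yOf σS g l hl) (yOf_hom σS g l hl) y'' hy'' hfst s

theorem sq_eval (F : EtCoh.Ab T) (G : EtCoh.Ab Y) (d : (EtCoh.pull e).obj F ⟶ G) {eS : _} {eX : _}
    (hS : IsEval (IsLocalRing.ResidueField.map ψ) σS g (ptX σX ≫ f) F eS)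
    (hX : IsEval (RingHom.id (IsLocalRing.ResidueField RX)) σX h (ptX σX) G eX)
    (p : (EtCoh.stalk (ptX σX ≫ f)).obj ((EtCoh.push g).obj F)) :
    eX ((EtCoh.stalk (ptX σX)).map (EtCoh.baseChange0 g f h e w F ≫ (EtCoh.push h).map d)
        (stalkPull f (ptX σX) ((EtCoh.push g).obj F) p)) =
      trSec (mMap f g h e w σS σX ψ hψ)
        ((sqPull (mMap f g h e w σS σX ψ hψ) (pullback.fst g σS) (pullback.fst h σX) e
        (mMap_fst f g h e w σS σX ψ hψ)).app F ≫ (EtCoh.pull (pullback.fst h σX)).map d) (eS p) := by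
  obtain ⟨V, l, hl, v, s, hv, rfl⟩ :=
    exists_germ (IsLocalRing.ResidueField.map ψ) σS (ptX σX ≫ f) (geo_ptX f σS σX ψ hψ) ((EtCoh.push g).obj F) p
  refine Eq.trans (sq_germ f g h e w σS σX ψ hψ F G d hX V l hl v hv s) ?_
  exact congrArg _ (hS.spec V l hl v hv s).symm

end Square

end Groth.Agent.StalkCrit24
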