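import Groth.Agent.Lib.StalkCrit24.TowerPull
import Groth.Agent.Lib.EtBCQ24.Local

/-!
# The stalk of a base change map is a pullback map on cohomology
-/

set_option autoImplicit false
set_option linter.style.haveILetI false
set_option linter.unusedSectionVars false
set_option backward.isDefEq.respectTransparency false
set_option backward.isDefEq.respectTransparency.types false

universe u

open CategoryTheory CategoryTheory.Limits AlgebraicGeometry Opposite HomologicalComplex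

namespace Groth.Agent.StalkCrit24

open Groth.Agent.EtStalk Groth.Agent.StrictLim24

lemma isIso_map_homologyMap_iff {X : Scheme.{u}} (Φ : EtCoh.Ab X ⥤ AddCommGrpCat.{u + 1}) [Φ.Additive]
    [Φ.PreservesHomology] {C D : CochainComplex (EtCoh.Ab X) ℕ} (φ : C ⟶ D) (q : ℕ) :
    IsIso (Φ.map (homologyMap φ q)) ↔ BijCoc (fun k => (Φ.map (C.d k (k + 1))).hom)
      (fun k => (Φ.map (D.d k (k + 1))).hom) (fun k => (Φ.map (φ.f k)).hom) q := by
  have e := ShortComplex.mapHomologyIso_hom_naturality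
    ((HomologicalComplex.shortComplexFunctor _ (ComplexShape.up ℕ) q).map φ) Φ
  have h : IsIso (Φ.map (homologyMap φ q)) ↔
      IsIso (homologyMap ((Φ.mapHomologicalComplex (ComplexShape.up ℕ)).map φ) q) :=
    ((Arrow.isoMk ((C.sc q).mapHomologyIso Φ) ((D.sc q).mapHomologyIso Φ) e.symm :
      Arrow.mk (homologyMap ((Φ.mapHomologicalComplex (ComplexShape.up ℕ)).map φ) q) ≅
        Arrow.mk (Φ.map (homologyMap φ q)))
      |> fun a => (MorphismProperty.isomorphisms _).arrow_mk_iso_iff a).symm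
  exact h.trans (isIso_homologyMap_iff _ q)

lemma isIso_map_homologyMap_iff' {X : Scheme.{u}} {CT CS CY : Type (u + 2)} [Category.{u + 1} CT] [Category.{u + 1} CS]
    [Category.{u + 1} CY] [Abelian CT] [Abelian CS] [Abelian CY]
    (Φ : EtCoh.Ab X ⥤ AddCommGrpCat.{u + 1}) [Φ.Additive] [Φ.PreservesHomology]
    (P : CS ⥤ EtCoh.Ab X) [P.PreservesZeroMorphisms] (G : CT ⥤ CS) [G.PreservesZeroMorphisms]
    (H : CY ⥤ EtCoh.Ab X) [H.PreservesZeroMorphisms]
    (I : HomologicalComplex CT (ComplexShape.up ℕ)) (J : HomologicalComplex CY (ComplexShape.up ℕ))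
    (φ : (P.mapHomologicalComplex _).obj ((G.mapHomologicalComplex _).obj I) ⟶ (H.mapHomologicalComplex _).obj J)
    (φf : ∀ k, P.obj (G.obj (I.X k)) ⟶ H.obj (J.X k)) (hφ : ∀ k, φ.f k = φf k) (q : ℕ) :
    IsIso (Φ.map (homologyMap φ q)) ↔ BijCoc (fun k => (Φ.map (P.map (G.map (I.d k (k + 1))))).hom)
      (fun k => (Φ.map (H.map (J.d k (k + 1)))).hom) (fun k => (Φ.map (φf k)).hom) q := by
  obtain rfl : φf = fun k => φ.f k := funext fun k => (hφ k).symm
  exact isIso_map_homologyMap_iff Φ φ q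

variable {Ω : Type u} [Field Ω] [IsSepClosed Ω]

lemma stalkPull_natural {A B : Scheme.{u}} (f : A ⟶ B) (ξ : Spec (CommRingCat.of Ω) ⟶ A) {G G' : EtCoh.Ab B}
    (a : G ⟶ G') (p : (EtCoh.stalk (ξ ≫ f)).obj G) :
    (EtCoh.stalk ξ).map ((EtCoh.pull f).map a) (stalkPull f ξ G p) =
      stalkPull f ξ G' ((EtCoh.stalk (ξ ≫ f)).map a p) := by
  obtain ⟨V, v, s, rfl⟩ := germ_surjective (ξ ≫ f) G p
  rw [germ_stalkPull, germ_nat, germ_nat, germ_stalkPull]
  exact congrArg (germ ξ ((EtCoh.pull f).obj G') (liftFib f ξ v))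
    (congrArg (fun t : G ⟶ (EtCoh.push f).obj ((EtCoh.pull f).obj G') => t.hom.app (op V) s)
      ((EtCoh.pullPushAdj f).unit.naturality a)).symm

section

variable {X S Y T : Scheme.{u}} (f : X ⟶ S) (g : T ⟶ S) (h : Y ⟶ X) (e : Y ⟶ T) (w : e ≫ g = h ≫ f)

lemma ψ_f (I : HomologicalComplex (EtCoh.Ab T) (ComplexShape.up ℕ)) (J : HomologicalComplex (EtCoh.Ab Y) (ComplexShape.up ℕ))
    (χ : ((EtCoh.pull e).mapHomologicalComplex (ComplexShape.up ℕ)).obj I ⟶ J) [PreservesFiniteLimits (EtCoh.pull e)]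
    (k : ℕ) :
    (EtBCQ24.ψ g f h e w I J χ).f k = EtCoh.baseChange0 g f h e w (I.X k) ≫ (EtCoh.push h).map (χ.f k) := rfl

variable [QuasiCompact g] [QuasiSeparated g] [QuasiCompact h] [QuasiSeparated h]
  {RS RX : Type u} [CommRing RS] [CommRing RX] [HenselianLocalRing RS] [HenselianLocalRing RX]
  [IsSepClosed (IsLocalRing.ResidueField RS)] [IsSepClosed (IsLocalRing.ResidueField RX)]
  (σS : Spec (CommRingCat.of RS) ⟶ S) (σX : Spec (CommRingCat.of RX) ⟶ X) (ψ : RS →+* RX) [IsLocalHom ψ]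
  (hψ : Spec.map (CommRingCat.ofHom ψ) ≫ σS = σX ≫ f) (TS : StrictSys σS) (TX : StrictSys σX)

theorem bijCoc_iff_sec [PreservesFiniteLimits (EtCoh.pull e)] (I : HomologicalComplex (EtCoh.Ab T) (ComplexShape.up ℕ))
    (J : HomologicalComplex (EtCoh.Ab Y) (ComplexShape.up ℕ))
    (χ : ((EtCoh.pull e).mapHomologicalComplex (ComplexShape.up ℕ)).obj I ⟶ J) (q : ℕ)
    (eS : ∀ k, (EtCoh.stalk (ptX σX ≫ f)).obj ((EtCoh.push g).obj (I.X k)) →+ ((EtCoh.pull (pullback.fst g σS)).obj (I.X k)).obj.obj (op (EtCoh.top (pullback g σS)))) (hS : ∀ k, Function.Bijective (eS k))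
    (eX : ∀ k, (EtCoh.stalk (ptX σX)).obj ((EtCoh.push h).obj (J.X k)) →+ ((EtCoh.pull (pullback.fst h σX)).obj (J.X k)).obj.obj (op (EtCoh.top (pullback h σX)))) (hX : ∀ k, Function.Bijective (eX k))
    (dC : ∀ k, (EtCoh.stalk (ptX σX ≫ f)).obj ((EtCoh.push g).obj (I.X k)) →+ (EtCoh.stalk (ptX σX ≫ f)).obj ((EtCoh.push g).obj (I.X (k + 1))))
    (dD : ∀ k, (EtCoh.stalk (ptX σX)).obj ((EtCoh.push h).obj (J.X k)) →+ (EtCoh.stalk (ptX σX)).obj ((EtCoh.push h).obj (J.X (k + 1))))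
    (φ : ∀ k, (EtCoh.stalk (ptX σX ≫ f)).obj ((EtCoh.push g).obj (I.X k)) →+ (EtCoh.stalk (ptX σX)).obj ((EtCoh.push h).obj (J.X k)))
    (dC' : ∀ k, ((EtCoh.pull (pullback.fst g σS)).obj (I.X k)).obj.obj (op (EtCoh.top (pullback g σS))) →+ ((EtCoh.pull (pullback.fst g σS)).obj (I.X (k + 1))).obj.obj (op (EtCoh.top (pullback g σS))))
    (dD' : ∀ k, ((EtCoh.pull (pullback.fst h σX)).obj (J.X k)).obj.obj (op (EtCoh.top (pullback h σX))) →+ ((EtCoh.pull (pullback.fst h σX)).obj (J.X (k + 1))).obj.obj (op (EtCoh.top (pullback h σX))))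
    (φ' : ∀ k, ((EtCoh.pull (pullback.fst g σS)).obj (I.X k)).obj.obj (op (EtCoh.top (pullback g σS))) →+ ((EtCoh.pull (pullback.fst h σX)).obj (J.X k)).obj.obj (op (EtCoh.top (pullback h σX))))
    (hc : ∀ k x, eS (k + 1) (dC k x) = dC' k (eS k x)) (hd : ∀ k x, eX (k + 1) (dD k x) = dD' k (eX k x))
    (hφ : ∀ k x, eX k (φ k x) = φ' k (eS k x)) :
    BijCoc dC dD φ q ↔
      BijCoc dC' dD' φ' q :=
  bijCoc_iff eS hS hc eX hX hd hφ q

include TS TX in
theorem bijCoc_stalk_iff [PreservesFiniteLimits (EtCoh.pull e)] (I : HomologicalComplex (EtCoh.Ab T) (ComplexShape.up ℕ))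
    (J : HomologicalComplex (EtCoh.Ab Y) (ComplexShape.up ℕ))
    (χ : ((EtCoh.pull e).mapHomologicalComplex (ComplexShape.up ℕ)).obj I ⟶ J) (q : ℕ) :
    BijCoc (fun k => ((EtCoh.stalk (ptX σX)).map ((EtCoh.pull f).map ((EtCoh.push g).map (I.d k (k + 1))))).hom)
        (fun k => ((EtCoh.stalk (ptX σX)).map ((EtCoh.push h).map (J.d k (k + 1)))).hom)
        (fun k => ((EtCoh.stalk (ptX σX)).map
          (EtCoh.baseChange0 g f h e w (I.X k) ≫ (EtCoh.push h).map (χ.f k))).hom) q ↔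
      BijCoc (fun k => (((EtCoh.pull (pullback.fst g σS)).map (I.d k (k + 1))).hom.app
          (op (EtCoh.top (pullback g σS)))).hom)
        (fun k => (((EtCoh.pull (pullback.fst h σX)).map (J.d k (k + 1))).hom.app
          (op (EtCoh.top (pullback h σX)))).hom)
        (fun k => trSec (mMap f g h e w σS σX ψ hψ) ((sqPull (mMap f g h e w σS σX ψ hψ) (pullback.fst g σS)
          (pullback.fst h σX) e (mMap_fst f g h e w σS σX ψ hψ)).app (I.X k) ≫
            (EtCoh.pull (pullback.fst h σX)).map (χ.f k))) q := by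
  choose eS hS using fun k => exists_isEval (IsLocalRing.ResidueField.map ψ) σS g (ptX σX ≫ f)
    (geo_ptX f σS σX ψ hψ) TS (I.X k)
  choose eX hX using fun k => exists_isEval (RingHom.id (IsLocalRing.ResidueField RX)) σX h (ptX σX)
    (geo_ptX' σX) TX (J.X k)
  refine Iff.trans (Iff.symm (bijCoc_iff
    (dC := fun k => ((EtCoh.stalk (ptX σX ≫ f)).map ((EtCoh.push g).map (I.d k (k + 1)))).hom)
    (dD := fun k => ((EtCoh.stalk (ptX σX)).map ((EtCoh.push h).map (J.d k (k + 1)))).hom)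
    (φ := fun k => (((EtCoh.stalk (ptX σX)).map
      (EtCoh.baseChange0 g f h e w (I.X k) ≫ (EtCoh.push h).map (χ.f k))).hom).comp
        (stalkPull f (ptX σX) ((EtCoh.push g).obj (I.X k))).hom)
    (fun k => (stalkPull f (ptX σX) ((EtCoh.push g).obj (I.X k))).hom)
    (fun k => ConcreteCategory.bijective_of_isIso (stalkPull f (ptX σX) ((EtCoh.push g).obj (I.X k))))
    (fun k x => (stalkPull_natural f (ptX σX) ((EtCoh.push g).map (I.d k (k + 1))) x).symm)
    (fun k => AddMonoidHom.id _) (fun k => Function.bijective_id) (fun k x => rfl) (fun k x => rfl) q)) ?_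
  exact bijCoc_iff_sec f g h e σS σX I J χ q eS (fun k => (hS k).bij) eX (fun k => (hX k).bij) _ _ _ _ _ _
    (fun k x => IsEval.naturality _ σS g _ (geo_ptX f σS σX ψ hψ) (hS k) (hS (k + 1)) (I.d k (k + 1)) x)
    (fun k x => IsEval.naturality _ σX h _ (geo_ptX' σX) (hX k) (hX (k + 1)) (J.d k (k + 1)) x)
    (fun k x => sq_eval f g h e w σS σX ψ hψ (I.X k) (J.X k) (χ.f k) (hS k) (hX k) x)

/-- The stalk of a base change map, on cocycles of stalks. -/
theorem isIso_stalk_bcQ_iff [PreservesFiniteLimits (EtCoh.pull e)]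
    [(EtCoh.stalk (ptX σX)).Additive] [(EtCoh.stalk (ptX σX)).PreservesHomology] {F : EtCoh.Ab T}
    (I : InjectiveResolution F) (J : InjectiveResolution ((EtCoh.pull e).obj F))
    (χ : ((EtCoh.pull e).mapHomologicalComplex (ComplexShape.up ℕ)).obj I.cocomplex ⟶ J.cocomplex)
    (hχ : (EtCoh.pull e).map (I.ι.f 0) ≫ χ.f 0 = J.ι.f 0) (q : ℕ) :
    IsIso ((EtCoh.stalk (ptX σX)).map (EtBC.bcQ g f h e w q F)) ↔
      BijCoc (fun k => ((EtCoh.stalk (ptX σX)).map ((EtCoh.pull f).map ((EtCoh.push g).map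
          (HomologicalComplex.d (c := ComplexShape.up ℕ) I.cocomplex k (k + 1))))).hom)
        (fun k => ((EtCoh.stalk (ptX σX)).map ((EtCoh.push h).map
          (HomologicalComplex.d (c := ComplexShape.up ℕ) J.cocomplex k (k + 1)))).hom)
        (fun k => ((EtCoh.stalk (ptX σX)).map
          (EtCoh.baseChange0 g f h e w (HomologicalComplex.X (c := ComplexShape.up ℕ) I.cocomplex k) ≫
            (EtCoh.push h).map (χ.f k))).hom) q := by
  rw [EtBCQ24.bcQ_eq g f h e w F I J χ hχ q, Functor.map_comp, Functor.map_comp, Functor.map_comp,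
    isIso_comp_left_iff, isIso_comp_left_iff, isIso_comp_right_iff]
  exact isIso_map_homologyMap_iff' (EtCoh.stalk (ptX σX)) (EtCoh.pull f) (EtCoh.push g) (EtCoh.push h)
    I.cocomplex J.cocomplex (EtBCQ24.ψ g f h e w _ _ χ) _ (fun k => ψ_f f g h e w _ _ χ k) q

include TS TX in
theorem bijective_Hpull_mMap_iff [PreservesFiniteLimits (EtCoh.pull e)] {F : EtCoh.Ab T}
    (I : InjectiveResolution F) (J : InjectiveResolution ((EtCoh.pull e).obj F))
    (χ : ((EtCoh.pull e).mapHomologicalComplex (ComplexShape.up ℕ)).obj I.cocomplex ⟶ J.cocomplex)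
    (hχ : (EtCoh.pull e).map (I.ι.f 0) ≫ χ.f 0 = J.ι.f 0) (q : ℕ) :
    Function.Bijective (EtCore.Hpull (mMap f g h e w σS σX ψ hψ)
        ((EtCoh.pull (pullback.fst g σS)).obj F) q) ↔
      BijCoc (fun k => (((EtCoh.pull (pullback.fst g σS)).map (HomologicalComplex.d (c := ComplexShape.up ℕ) I.cocomplex k (k + 1))).hom.app
          (op (EtCoh.top (pullback g σS)))).hom)
        (fun k => (((EtCoh.pull (pullback.fst h σX)).map (HomologicalComplex.d (c := ComplexShape.up ℕ) J.cocomplex k (k + 1))).hom.app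
          (op (EtCoh.top (pullback h σX)))).hom)
        (fun k => trSec (mMap f g h e w σS σX ψ hψ) ((sqPull (mMap f g h e w σS σX ψ hψ) (pullback.fst g σS)
          (pullback.fst h σX) e (mMap_fst f g h e w σS σX ψ hψ)).app (HomologicalComplex.X (c := ComplexShape.up ℕ) I.cocomplex k) ≫
            (EtCoh.pull (pullback.fst h σX)).map (χ.f k))) q :=
  bijective_Hpull_iff_bijCoc (mMap f g h e w σS σX ψ hψ) (pullback.fst g σS) (pullback.fst h σX) e
      (mMap_fst f g h e w σS σX ψ hψ) I J χ hχ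
      (fun n k => TS.subsingleton_H_injective g (I.cocomplex.X n) k)
      (fun n k => TX.subsingleton_H_injective h (J.cocomplex.X n) k) q

include TS TX in
theorem isIso_stalk_bcQ_iff_sec [PreservesFiniteLimits (EtCoh.pull e)] {F : EtCoh.Ab T}
    (I : InjectiveResolution F) (J : InjectiveResolution ((EtCoh.pull e).obj F))
    (χ : ((EtCoh.pull e).mapHomologicalComplex (ComplexShape.up ℕ)).obj I.cocomplex ⟶ J.cocomplex)
    (hχ : (EtCoh.pull e).map (I.ι.f 0) ≫ χ.f 0 = J.ι.f 0) (q : ℕ) [(EtCoh.stalk (ptX σX)).Additive] [(EtCoh.stalk (ptX σX)).PreservesHomology] :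
    IsIso ((EtCoh.stalk (ptX σX)).map (EtBC.bcQ g f h e w q F)) ↔
      BijCoc (fun k => (((EtCoh.pull (pullback.fst g σS)).map (HomologicalComplex.d (c := ComplexShape.up ℕ) I.cocomplex k (k + 1))).hom.app
          (op (EtCoh.top (pullback g σS)))).hom)
        (fun k => (((EtCoh.pull (pullback.fst h σX)).map (HomologicalComplex.d (c := ComplexShape.up ℕ) J.cocomplex k (k + 1))).hom.app
          (op (EtCoh.top (pullback h σX)))).hom)
        (fun k => trSec (mMap f g h e w σS σX ψ hψ) ((sqPull (mMap f g h e w σS σX ψ hψ) (pullback.fst g σS)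
          (pullback.fst h σX) e (mMap_fst f g h e w σS σX ψ hψ)).app (HomologicalComplex.X (c := ComplexShape.up ℕ) I.cocomplex k) ≫
            (EtCoh.pull (pullback.fst h σX)).map (χ.f k))) q :=
  (isIso_stalk_bcQ_iff f g h e w σX I J χ hχ q).trans
    (bijCoc_stalk_iff f g h e w σS σX ψ hψ TS TX I.cocomplex J.cocomplex χ q)

include TS TX in
theorem isIso_stalk_bcQ_iff_Hpull [PreservesFiniteLimits (EtCoh.pull e)] {F : EtCoh.Ab T}
    (I : InjectiveResolution F) (J : InjectiveResolution ((EtCoh.pull e).obj F))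
    (χ : ((EtCoh.pull e).mapHomologicalComplex (ComplexShape.up ℕ)).obj I.cocomplex ⟶ J.cocomplex)
    (hχ : (EtCoh.pull e).map (I.ι.f 0) ≫ χ.f 0 = J.ι.f 0) (q : ℕ) [(EtCoh.stalk (ptX σX)).Additive] [(EtCoh.stalk (ptX σX)).PreservesHomology] :
    IsIso ((EtCoh.stalk (ptX σX)).map (EtBC.bcQ g f h e w q F)) ↔
      Function.Bijective (EtCore.Hpull (mMap f g h e w σS σX ψ hψ)
        ((EtCoh.pull (pullback.fst g σS)).obj F) q) :=
  (isIso_stalk_bcQ_iff_sec f g h e w σS σX ψ hψ TS TX I J χ hχ q).trans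
    (bijective_Hpull_mMap_iff f g h e w σS σX ψ hψ TS TX I J χ hχ q).symm

include TS TX in
/-- The stalk of a base change map, as pullback on cohomology. -/
theorem bijective_stalk_bcQ_iff [PreservesFiniteLimits (EtCoh.pull e)] (F : EtCoh.Ab T) (q : ℕ) :
    Function.Bijective ((EtCoh.stalk (ptX σX)).map (EtBC.bcQ g f h e w q F)) ↔
      Function.Bijective (EtCore.Hpull (mMap f g h e w σS σX ψ hψ)
        ((EtCoh.pull (pullback.fst g σS)).obj F) q) := by
  haveI : PreservesBinaryBiproducts (EtCoh.stalk (ptX σX)) := preservesBinaryBiproducts_of_preservesBinaryProducts _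
  haveI : (EtCoh.stalk (ptX σX)).Additive := Functor.additive_of_preservesBinaryBiproducts _
  haveI : (EtCoh.stalk (ptX σX)).PreservesHomology := inferInstance
  rw [← ConcreteCategory.isIso_iff_bijective]
  exact isIso_stalk_bcQ_iff_Hpull f g h e w σS σX ψ hψ TS TX (injectiveResolution F)
    (injectiveResolution ((EtCoh.pull e).obj F)) (EtBCQ24.χK e F) (EtBCQ24.ι_χK e F) q

end

end Groth.Agent.StalkCrit24
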