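import Mathlib

/-!
# Towers of short exact sequences and their classes

A resolution is cut in short exact sequences `0 ⟶ Z n ⟶ K n ⟶ Z (n + 1) ⟶ 0`; composing their extension classes gives a
map `Hom(P, Z n) ⟶ Ext^n(P, Z 0)` which is natural in the tower and commutes with exact functors.
-/

set_option autoImplicit false
set_option linter.style.haveILetI false
set_option linter.unusedSectionVars false

universe w w' v v' u u'

open CategoryTheory CategoryTheory.Limits CategoryTheory.Abelian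

namespace Groth.Agent.StalkCrit24

variable (A : Type u) [Category.{v} A] [Abelian A]

/-- A tower of short exact sequences. -/
structure Tower where
  /-- The syzygies. -/
  Z : ℕ → A
  /-- The terms. -/
  K : ℕ → A
  /-- The inclusions. -/
  i : ∀ n, Z n ⟶ K n
  /-- The projections. -/
  p : ∀ n, K n ⟶ Z (n + 1)
  zero : ∀ n, i n ≫ p n = 0
  se : ∀ n, (ShortComplex.mk (i n) (p n) (zero n)).ShortExact

variable {A}

namespace Tower

/-- A morphism of towers. -/
structure Hom (t t' : Tower A) where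
  /-- On syzygies. -/
  z : ∀ n, t.Z n ⟶ t'.Z n
  /-- On terms. -/
  k : ∀ n, t.K n ⟶ t'.K n
  hi : ∀ n, t.i n ≫ k n = z n ≫ t'.i n
  hp : ∀ n, t.p n ≫ z (n + 1) = k n ≫ t'.p n

variable (t : Tower A)

/-- The differential. -/
def d (n : ℕ) : t.K n ⟶ t.K (n + 1) := t.p n ≫ t.i (n + 1)

lemma mono_i (n : ℕ) : Mono (t.i n) := (t.se n).mono_f

lemma epi_p (n : ℕ) : Epi (t.p n) := (t.se n).epi_g

/-- Composition of morphisms of towers. -/
def Hom.comp {t t' t'' : Tower A} (a : Hom t t') (b : Hom t' t'') : Hom t t'' where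
  z n := a.z n ≫ b.z n
  k n := a.k n ≫ b.k n
  hi n := by rw [reassoc_of% (a.hi n), b.hi, Category.assoc]
  hp n := by rw [reassoc_of% (a.hp n), b.hp, Category.assoc]

section Functor

variable {B : Type u'} [Category.{v'} B] [Abelian B] (F : A ⥤ B) [F.Additive] [PreservesFiniteLimits F]
  [PreservesFiniteColimits F]

/-- The image of a tower by an exact functor. -/
@[reducible] def map : Tower B where
  Z n := F.obj (t.Z n)
  K n := F.obj (t.K n)
  i n := F.map (t.i n)
  p n := F.map (t.p n)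
  zero n := by rw [← F.map_comp, t.zero, F.map_zero]
  se n := (t.se n).map_of_exact F

/-- The image of a morphism of towers by an exact functor. -/
def Hom.map {t t' : Tower A} (a : Hom t t') : Hom (t.map F) (t'.map F) where
  z n := F.map (a.z n)
  k n := F.map (a.k n)
  hi n := by
    show F.map (t.i n) ≫ F.map (a.k n) = F.map (a.z n) ≫ F.map (t'.i n)
    rw [← F.map_comp, a.hi, F.map_comp]
  hp n := by
    show F.map (t.p n) ≫ F.map (a.z (n + 1)) = F.map (a.k n) ≫ F.map (t'.p n)
    rw [← F.map_comp, a.hp, F.map_comp]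

variable {F} {G : A ⥤ B} [G.Additive] [PreservesFiniteLimits G] [PreservesFiniteColimits G]

/-- A natural transformation gives a morphism of towers. -/
def natHom (α : F ⟶ G) : Hom (t.map F) (t.map G) where
  z n := α.app _
  k n := α.app _
  hi n := α.naturality _
  hp n := α.naturality _

end Functor

variable [HasExt.{w} A]

/-- The iterated extension class. -/
noncomputable def e : ∀ n, Ext (t.Z n) (t.Z 0) n
  | 0 => Ext.mk₀ (𝟙 _)
  | n + 1 => (t.se n).extClass.comp (e n) (Nat.add_comm 1 n)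

lemma e_naturality {t t' : Tower A} (a : Hom t t') : ∀ n,
    (Ext.mk₀ (a.z n)).comp (t'.e n) (zero_add n) = (t.e n).comp (Ext.mk₀ (a.z 0)) (add_zero n)
  | 0 => by simp [e]
  | n + 1 => by
    have h := ShortComplex.ShortExact.extClass_naturality (t.se n) (t'.se n)
      (ShortComplex.homMk (a.z n) (a.k n) (a.z (n + 1)) (a.hi n).symm (a.hp n).symm)
    simp only [ShortComplex.homMk_τ₁, ShortComplex.homMk_τ₃] at h
    rw [e, e, ← Ext.comp_assoc _ _ _ (zero_add 1) (Nat.add_comm 1 n) (by omega), ← h,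
      Ext.comp_assoc _ _ _ (add_zero 1) (zero_add n) (by omega), e_naturality a n,
      ← Ext.comp_assoc_of_third_deg_zero]

lemma e_map {B : Type u'} [Category.{v'} B] [Abelian B] [HasExt.{w'} B] (F : A ⥤ B) [F.Additive]
    [PreservesFiniteLimits F] [PreservesFiniteColimits F] : ∀ n,
    (t.e n).mapExactFunctor F = (t.map F).e n
  | 0 => by simp [e, Ext.mapExactFunctor_mk₀]
  | n + 1 => by
    rw [e, e, Ext.mapExactFunctor_comp, Ext.mapExactFunctor_extClass, e_map F n]
    rfl

variable (P : A)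

/-- The class of a map to a syzygy. -/
noncomputable def cl (n : ℕ) : (P ⟶ t.Z n) →+ Ext P (t.Z 0) n :=
  AddMonoidHom.mk' (fun y => (Ext.mk₀ y).comp (t.e n) (zero_add n)) fun y y' => by
    rw [Ext.mk₀_add, Ext.add_comp]

lemma cl_apply (n : ℕ) (y : P ⟶ t.Z n) : t.cl P n y = (Ext.mk₀ y).comp (t.e n) (zero_add n) := rfl

variable {P}

lemma cl_naturality {t t' : Tower A} (a : Hom t t') {P' : A} (r : P' ⟶ P) (n : ℕ) (y : P ⟶ t.Z n) :
    t'.cl P' n (r ≫ y ≫ a.z n) =
      (Ext.mk₀ r).comp ((t.cl P n y).comp (Ext.mk₀ (a.z 0)) (add_zero n)) (zero_add n) := by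
  rw [cl_apply, cl_apply, ← Ext.mk₀_comp_mk₀, Ext.comp_assoc_of_second_deg_zero,
    ← Ext.mk₀_comp_mk₀, Ext.comp_assoc_of_second_deg_zero, e_naturality a n,
    Ext.comp_assoc_of_third_deg_zero]

lemma cl_map {B : Type u'} [Category.{v'} B] [Abelian B] [HasExt.{w'} B] (F : A ⥤ B) [F.Additive]
    [PreservesFiniteLimits F] [PreservesFiniteColimits F] (n : ℕ) (y : P ⟶ t.Z n) :
    (t.cl P n y).mapExactFunctor F = (t.map F).cl (F.obj P) n (F.map y) := by
  rw [cl_apply, cl_apply, Ext.mapExactFunctor_comp, Ext.mapExactFunctor_mk₀, e_map]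

section Acyclic

variable (hac : ∀ n k, Subsingleton (Ext P (t.K n) (k + 1)))

include hac in
lemma comp_e_bijective : ∀ n k m (h : k + 1 + n = m),
    Function.Bijective (fun x : Ext P (t.Z n) (k + 1) => x.comp (t.e n) h)
  | 0, k, m, h => by
    obtain rfl : k + 1 = m := by omega
    simp only [e, Ext.comp_mk₀_id]
    exact Function.bijective_id
  | n + 1, k, m, h => by
    have key : ∀ x : Ext P (t.Z (n + 1)) (k + 1), x.comp (t.e (n + 1)) h =
        (x.comp (t.se n).extClass (rfl : k + 1 + 1 = k + 1 + 1)).comp (t.e n) (by omega) := fun x =>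
      (Ext.comp_assoc x _ _ rfl (Nat.add_comm 1 n) (by omega)).symm
    simp only [key]
    refine (comp_e_bijective n (k + 1) m (by omega)).comp ⟨fun x x' hx => ?_, fun y => ?_⟩
    · simp only at hx
      refine sub_eq_zero.1 ?_
      obtain ⟨z, hz⟩ := Ext.covariant_sequence_exact₃ P (t.se n) (x - x') rfl (by
        rw [sub_eq_add_neg, Ext.add_comp, Ext.neg_comp, hx, add_neg_cancel])
      haveI := hac n k
      rw [← hz, Subsingleton.elim z 0, Ext.zero_comp]
    · haveI := hac n (k + 1)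
      exact Ext.covariant_sequence_exact₁ P (t.se n) y (Subsingleton.elim _ _) rfl

include hac in
lemma cl_surjective : ∀ n, Function.Surjective (t.cl P n)
  | 0 => fun ξ => ⟨Ext.homEquiv₀ ξ, by
      rw [cl_apply, e, Ext.comp_mk₀_id, Ext.mk₀_homEquiv₀_apply]⟩
  | n + 1 => fun ξ => by
    obtain ⟨x, rfl⟩ := (t.comp_e_bijective hac n 0 (n + 1) (by omega)).2 ξ
    haveI := hac n 0
    obtain ⟨y, hy⟩ := Ext.covariant_sequence_exact₁ P (t.se n) x (Subsingleton.elim _ _) (rfl : 0 + 1 = 1)
    refine ⟨Ext.homEquiv₀ y, ?_⟩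
    rw [cl_apply, Ext.mk₀_homEquiv₀_apply]
    simp only [e, ← hy]
    exact (Ext.comp_assoc y _ _ (zero_add 1) (Nat.add_comm 1 n) (by omega)).symm

lemma cl_zero_eq_zero (y : P ⟶ t.Z 0) : t.cl P 0 y = 0 ↔ y = 0 := by
  rw [cl_apply, e, Ext.comp_mk₀_id, Ext.mk₀_eq_zero_iff]

include hac in
lemma cl_succ_eq_zero (n : ℕ) (y : P ⟶ t.Z (n + 1)) :
    t.cl P (n + 1) y = 0 ↔ ∃ w : P ⟶ t.K n, w ≫ t.p n = y := by
  have key : t.cl P (n + 1) y = ((Ext.mk₀ y).comp (t.se n).extClass (zero_add 1)).comp (t.e n) (Nat.add_comm 1 n) := by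
    rw [cl_apply, e]
    exact (Ext.comp_assoc _ _ _ (zero_add 1) (Nat.add_comm 1 n) (by omega)).symm
  constructor
  · intro h0
    have h1 : (Ext.mk₀ y).comp (t.se n).extClass (zero_add 1) = 0 := by
      refine (t.comp_e_bijective hac n 0 (n + 1) (by omega)).1 ?_
      show _ = _
      simp only [Ext.zero_comp]
      exact key.symm.trans h0
    obtain ⟨z, hz⟩ := Ext.covariant_sequence_exact₃ P (t.se n) (Ext.mk₀ y) (zero_add 1) h1
    refine ⟨Ext.homEquiv₀ z, (Ext.mk₀_bijective P _).1 ?_⟩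
    rw [← Ext.mk₀_comp_mk₀, Ext.mk₀_homEquiv₀_apply]
    exact hz
  · rintro ⟨w, rfl⟩
    have h2 : (Ext.mk₀ (t.p n)).comp (t.se n).extClass (zero_add 1) = 0 := (t.se n).comp_extClass
    rw [key, ← Ext.mk₀_comp_mk₀, Ext.comp_assoc_of_second_deg_zero, h2, Ext.comp_zero, Ext.zero_comp]

end Acyclic

end Tower

end Groth.Agent.StalkCrit24
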