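import Groth.Agent.Lib.StalkCrit24.Tower
import Groth.Agent.Lib.StalkCrit24.Coc

/-!
# Maps of Ext groups, on cocycles
-/

set_option autoImplicit false
set_option linter.style.haveILetI false
set_option linter.unusedSectionVars false

universe w w' v v' u u'

open CategoryTheory CategoryTheory.Limits CategoryTheory.Abelian

namespace Groth.Agent.StalkCrit24

namespace Tower

variable {A : Type u} [Category.{v} A] [Abelian A] [HasExt.{w} A] (t : Tower A) (P : A)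

/-- Maps from `P` into the terms. -/
abbrev hd (k : ℕ) : (P ⟶ t.K k) →+ (P ⟶ t.K (k + 1)) :=
  AddMonoidHom.mk' (fun w => w ≫ t.d k) fun _ _ => Preadditive.add_comp _ _ _ _ _ _

lemma exists_lift (n : ℕ) (w : P ⟶ t.K n) (hw : w ≫ t.d n = 0) : ∃ y : P ⟶ t.Z n, y ≫ t.i n = w := by
  haveI := t.mono_i (n + 1)
  have h : w ≫ t.p n = 0 := by rw [← cancel_mono (t.i (n + 1)), Category.assoc, zero_comp]; exact hw
  haveI : Mono (ShortComplex.mk (t.i n) (t.p n) (t.zero n)).f := t.mono_i n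
  exact ⟨(t.se n).exact.lift w h, (t.se n).exact.lift_f w h⟩

lemma i_d (n : ℕ) : t.i n ≫ t.d n = 0 := by rw [d, reassoc_of% (t.zero n), zero_comp]

lemma cl_eq_zero_iff (hac : ∀ n k, Subsingleton (Ext P (t.K n) (k + 1))) :
    ∀ (n : ℕ) (y : P ⟶ t.Z n), t.cl P n y = 0 ↔ Bd (t.hd P) n (y ≫ t.i n)
  | 0, y => by
    rw [cl_zero_eq_zero]
    haveI := t.mono_i 0
    exact ⟨fun h => by rw [h, zero_comp]; rfl, fun h => (cancel_mono (t.i 0)).1 (h.trans zero_comp.symm)⟩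
  | n + 1, y => by
    rw [t.cl_succ_eq_zero hac]
    haveI := t.mono_i (n + 1)
    refine ⟨fun ⟨w, hw⟩ => ⟨w, ?_⟩, fun ⟨w, hw⟩ => ⟨w, (cancel_mono (t.i (n + 1))).1 ?_⟩⟩
    · show w ≫ t.d n = _
      rw [← hw, d, Category.assoc]
    · refine (Category.assoc _ _ _).trans ?_
      exact hw

variable {B : Type u'} [Category.{v'} B] [Abelian B] [HasExt.{w'} B] (F : A ⥤ B) [F.Additive]
  [PreservesFiniteLimits F] [PreservesFiniteColimits F] (t' : Tower B) {P' : B}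

/-- The map on cochains. -/
abbrev hmap (a : Hom (t.map F) t') (r : P' ⟶ F.obj P) (k : ℕ) : (P ⟶ t.K k) →+ (P' ⟶ t'.K k) :=
  AddMonoidHom.mk' (fun w => r ≫ F.map w ≫ a.k k) fun x y => by
    rw [F.map_add, Preadditive.add_comp, Preadditive.comp_add]

/-- Bijectivity of a map of Ext groups. -/
theorem bijective_ext_iff (hac : ∀ n k, Subsingleton (Ext P (t.K n) (k + 1)))
    (hac' : ∀ n k, Subsingleton (Ext P' (t'.K n) (k + 1))) (a : Hom (t.map F) t') (r : P' ⟶ F.obj P) (n : ℕ) :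
    Function.Bijective (fun ξ : Ext P (t.Z 0) n =>
        (Ext.mk₀ r).comp ((ξ.mapExactFunctor F).comp (Ext.mk₀ (a.z 0) : Ext (F.obj (t.Z 0)) (t'.Z 0) 0) (add_zero n))
          (zero_add n)) ↔
      BijCoc (t.hd P) (t'.hd P') (t.hmap P F t' a r) n := by
  let Φ : Ext P (t.Z 0) n →+ Ext P' (t'.Z 0) n :=
    AddMonoidHom.mk'
      (fun ξ => (Ext.mk₀ r).comp ((ξ.mapExactFunctor F).comp (Ext.mk₀ (a.z 0) : Ext (F.obj (t.Z 0)) (t'.Z 0) 0) (add_zero n))
        (zero_add n))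
      fun x y => by
        rw [Ext.mapExactFunctor_add, Ext.add_comp, Ext.comp_add]
  have hcl : ∀ y, Φ (t.cl P n y) = t'.cl P' n (r ≫ F.map y ≫ a.z n) := fun y => by
    show (Ext.mk₀ r).comp (((t.cl P n y).mapExactFunctor F).comp (Ext.mk₀ (a.z 0)) (add_zero n)) (zero_add n) = _
    rw [cl_map]
    exact (cl_naturality a r n (F.map y)).symm
  have hk : ∀ y : P ⟶ t.Z n, t.hmap P F t' a r n (y ≫ t.i n) = (r ≫ F.map y ≫ a.z n) ≫ t'.i n := fun y => by
    have h : F.map (t.i n) ≫ a.k n = a.z n ≫ t'.i n := a.hi n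
    show r ≫ F.map (y ≫ t.i n) ≫ a.k n = _
    simp only [F.map_comp, Category.assoc, h]
  show Function.Bijective Φ ↔ _
  constructor
  · rintro ⟨hinj, hsurj⟩
    refine ⟨fun b hb => ?_, fun x hx hb => ?_⟩
    · obtain ⟨y', rfl⟩ := t'.exists_lift P' n b hb
      obtain ⟨ξ, hξ⟩ := hsurj (t'.cl P' n y')
      obtain ⟨y, rfl⟩ := t.cl_surjective hac n ξ
      refine ⟨y ≫ t.i n, by simp [i_d], ?_⟩
      rw [hk, ← Preadditive.sub_comp, ← t'.cl_eq_zero_iff P' hac', map_sub, ← hcl, hξ, sub_self]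
    · obtain ⟨y, rfl⟩ := t.exists_lift P n x hx
      rw [← t.cl_eq_zero_iff P hac]
      refine hinj ?_
      rw [hcl, map_zero, t'.cl_eq_zero_iff P' hac', ← hk]
      exact hb
  · rintro ⟨h1, h2⟩
    refine ⟨(injective_iff_map_eq_zero _).2 fun ξ hξ => ?_, fun η => ?_⟩
    · obtain ⟨y, rfl⟩ := t.cl_surjective hac n ξ
      rw [hcl, t'.cl_eq_zero_iff P' hac', ← hk] at hξ
      rw [t.cl_eq_zero_iff P hac]
      exact h2 _ (by simp [i_d]) hξ
    · obtain ⟨y', rfl⟩ := t'.cl_surjective hac' n η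
      obtain ⟨x, hx, hxb⟩ := h1 (y' ≫ t'.i n) (by simp [i_d])
      obtain ⟨y, rfl⟩ := t.exists_lift P n x hx
      refine ⟨t.cl P n y, ?_⟩
      rw [hcl, ← sub_eq_zero, ← map_sub, t'.cl_eq_zero_iff P' hac', Preadditive.sub_comp, ← hk]
      exact hxb

end Tower

end Groth.Agent.StalkCrit24
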