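import Groth.Agent.Lib.StalkCrit24.Cycles
import Groth.Agent.Lib.StalkCrit24.SqEval
import Groth.Agent.Lib.EtBCQ24.Chain
import Groth.Agent.Lib.EtAcyc24.Comp

/-!
# Pullback on cohomology, on the sections of resolutions
-/

set_option autoImplicit false
set_option linter.style.haveILetI false
set_option linter.unusedSectionVars false
set_option backward.isDefEq.respectTransparency false
set_option backward.isDefEq.respectTransparency.types false

universe w w' u

open CategoryTheory CategoryTheory.Limits AlgebraicGeometry Opposite CategoryTheory.Abelian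

namespace Groth.Agent.StalkCrit24

section Generic

variable {A : Type*} [Category A] [Abelian A] {B B' C : Type*} [Category B] [Abelian B] [Category B'] [Abelian B']
  [Category C] [Abelian C]

lemma bijective_comp_mk₀ [HasExt.{w} B] (P : B) {G G' : B} (b : G ⟶ G') [IsIso b] (n : ℕ) :
    Function.Bijective (fun z : Ext P G n => z.comp (Ext.mk₀ b) (add_zero n)) :=
  Function.bijective_iff_has_inverse.2 ⟨fun z => z.comp (Ext.mk₀ (inv b)) (add_zero n),
    fun z => by simp [Ext.comp_assoc_of_third_deg_zero, Ext.comp_mk₀_id],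
    fun z => by simp [Ext.comp_assoc_of_third_deg_zero, Ext.comp_mk₀_id]⟩

/-- A morphism of towers over a natural transformation between composites. -/
@[reducible] noncomputable def Tower.sqHom₂ (a : A ⥤ B) (m : B ⥤ C) (e : A ⥤ B') (p : B' ⥤ C) [a.Additive] [m.Additive]
    [e.Additive] [p.Additive] [PreservesFiniteLimits a] [PreservesFiniteColimits a] [PreservesFiniteLimits m]
    [PreservesFiniteColimits m] [PreservesFiniteLimits e] [PreservesFiniteColimits e] [PreservesFiniteLimits p]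
    [PreservesFiniteColimits p] (α : a ⋙ m ⟶ e ⋙ p) {t : Tower A} {t' : Tower B'} (hom : Tower.Hom (t.map e) t') :
    Tower.Hom ((t.map a).map m) (t'.map p) where
  z n := α.app (t.Z n) ≫ p.map (hom.z n)
  k n := α.app (t.K n) ≫ p.map (hom.k n)
  hi n := by
    show m.map (a.map (t.i n)) ≫ _ = _ ≫ p.map (t'.i n)
    have h1 : m.map (a.map (t.i n)) ≫ α.app (t.K n) = α.app (t.Z n) ≫ p.map (e.map (t.i n)) := α.naturality (t.i n)
    rw [reassoc_of% h1, Category.assoc, ← p.map_comp, ← p.map_comp]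
    exact congrArg (α.app (t.Z n) ≫ p.map ·) (hom.hi n)
  hp n := by
    show m.map (a.map (t.p n)) ≫ _ = _ ≫ p.map (t'.p n)
    have h1 : m.map (a.map (t.p n)) ≫ α.app (t.Z (n + 1)) = α.app (t.K n) ≫ p.map (e.map (t.p n)) :=
      α.naturality (t.p n)
    rw [reassoc_of% h1, Category.assoc, ← p.map_comp, ← p.map_comp]
    exact congrArg (α.app (t.K n) ≫ p.map ·) (hom.hp n)

/-- Bijectivity of an exact functor on Ext groups, on the cochains of resolutions. -/
theorem bijective_sq_iff [HasExt.{w} B] [HasExt.{w'} C] (a : A ⥤ B) (m : B ⥤ C) (e : A ⥤ B') (p : B' ⥤ C) [a.Additive]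
    [m.Additive] [e.Additive] [p.Additive] [PreservesFiniteLimits a] [PreservesFiniteColimits a]
    [PreservesFiniteLimits m] [PreservesFiniteColimits m] [PreservesFiniteLimits e] [PreservesFiniteColimits e]
    [PreservesFiniteLimits p] [PreservesFiniteColimits p] (α : a ⋙ m ⟶ e ⋙ p) [IsIso α] {F : A}
    (I : InjectiveResolution F) (J : InjectiveResolution (e.obj F))
    (χ : (e.mapHomologicalComplex (ComplexShape.up ℕ)).obj I.cocomplex ⟶ J.cocomplex)
    (hχ : e.map (I.ι.f 0) ≫ χ.f 0 = J.ι.f 0) (P : B) (P' : C) (r : P' ⟶ m.obj P)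
    (hac : ∀ n k, Subsingleton (Ext P (a.obj (HomologicalComplex.X (c := ComplexShape.up ℕ) I.cocomplex n)) (k + 1)))
    (hac' : ∀ n k, Subsingleton (Ext P' (p.obj (HomologicalComplex.X (c := ComplexShape.up ℕ) J.cocomplex n)) (k + 1))) (q : ℕ) :
    Function.Bijective (fun ξ : Ext P (a.obj F) q => (Ext.mk₀ r).comp (ξ.mapExactFunctor m) (zero_add q)) ↔
      BijCoc
        (fun k => AddMonoidHom.mk' (fun w : P ⟶ a.obj (HomologicalComplex.X (c := ComplexShape.up ℕ) I.cocomplex k) => w ≫ a.map (HomologicalComplex.d (c := ComplexShape.up ℕ) I.cocomplex k (k + 1)))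
          fun _ _ => Preadditive.add_comp _ _ _ _ _ _)
        (fun k => AddMonoidHom.mk' (fun w : P' ⟶ p.obj (HomologicalComplex.X (c := ComplexShape.up ℕ) J.cocomplex k) => w ≫ p.map (HomologicalComplex.d (c := ComplexShape.up ℕ) J.cocomplex k (k + 1)))
          fun _ _ => Preadditive.add_comp _ _ _ _ _ _)
        (fun k => AddMonoidHom.mk' (fun w : P ⟶ a.obj (HomologicalComplex.X (c := ComplexShape.up ℕ) I.cocomplex k) =>
          r ≫ m.map w ≫ α.app (HomologicalComplex.X (c := ComplexShape.up ℕ) I.cocomplex k) ≫ p.map (χ.f k)) fun x y => by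
            rw [Functor.map_add, Preadditive.add_comp, Preadditive.comp_add]) q := by
  let hom : Tower.Hom ((Tower.ofRes I).map e) (Tower.ofRes J) :=
    Tower.homOfChain e I.cocomplex I.cocomplex_exactAt_succ J.cocomplex J.cocomplex_exactAt_succ χ
  let t := (Tower.ofRes I).map a
  let t' := (Tower.ofRes J).map p
  let hh : Tower.Hom (t.map m) t' := Tower.sqHom₂ a m e p α hom
  have key := t.bijective_ext_iff P m t' hac hac' hh r q
  have hz : hom.z 0 = inv (e.map (Tower.aug I)) ≫ Tower.aug J := by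
    rw [IsIso.eq_inv_comp]
    refine (cancel_mono (J.cocomplex.iCycles 0)).1 ?_
    have h0 : e.map (I.cocomplex.iCycles 0) ≫ χ.f 0 = hom.z 0 ≫ J.cocomplex.iCycles 0 := hom.hi 0
    rw [Category.assoc]
    refine (congrArg (e.map (Tower.aug I) ≫ ·) h0.symm).trans ?_
    refine Eq.trans ?_ (Tower.aug_i J).symm
    refine (Category.assoc _ _ _).symm.trans ?_
    refine (congrArg (· ≫ χ.f 0) (e.map_comp _ _).symm).trans ?_
    exact (congrArg (fun r => e.map r ≫ χ.f 0) (Tower.aug_i I)).trans hχ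
  haveI : IsIso (hom.z 0) := by
    rw [hz]
    infer_instance
  haveI : IsIso (hh.z 0) := by
    show IsIso (α.app _ ≫ p.map (hom.z 0))
    infer_instance
  let b := a.map (Tower.aug I)
  haveI : IsIso b := inferInstanceAs (IsIso (a.map (Tower.aug I)))
  let g : P' ⟶ m.obj P := r
  let c : m.obj (a.obj F) ⟶ t'.Z 0 := m.map b ≫ hh.z 0
  have hb := bijective_comp_mk₀ P b q
  have hc := bijective_comp_mk₀ P' c q
  have hsq : ∀ ξ : Ext P (a.obj F) q,
      ((Ext.mk₀ r).comp (ξ.mapExactFunctor m) (zero_add q)).comp (Ext.mk₀ c) (add_zero q) =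
        (Ext.mk₀ r).comp (((ξ.comp (Ext.mk₀ b) (add_zero q)).mapExactFunctor m).comp (Ext.mk₀ (hh.z 0)) (add_zero q))
          (zero_add q) := fun ξ => by
    rw [Ext.mapExactFunctor_comp, Ext.mapExactFunctor_mk₀, Ext.comp_assoc_of_third_deg_zero,
      Ext.comp_assoc_of_third_deg_zero, Ext.mk₀_comp_mk₀]
  have h1 : Function.Bijective (fun ξ : Ext P (a.obj F) q => (Ext.mk₀ r).comp (ξ.mapExactFunctor m) (zero_add q)) ↔
      Function.Bijective (fun ξ : Ext P (t.Z 0) q =>
        (Ext.mk₀ r).comp ((ξ.mapExactFunctor m).comp (Ext.mk₀ (hh.z 0)) (add_zero q)) (zero_add q)) := by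
    rw [← hc.of_comp_iff' (fun ξ : Ext P (a.obj F) q => (Ext.mk₀ r).comp (ξ.mapExactFunctor m) (zero_add q)),
      ← hb.of_comp_iff (fun ξ : Ext P (t.Z 0) q =>
        (Ext.mk₀ r).comp ((ξ.mapExactFunctor m).comp (Ext.mk₀ (hh.z 0)) (add_zero q)) (zero_add q))]
    exact iff_of_eq (congrArg _ (funext hsq))
  refine h1.trans (key.trans ?_)
  refine bijCoc_iff (fun k => AddMonoidHom.id (P ⟶ a.obj (HomologicalComplex.X (c := ComplexShape.up ℕ) I.cocomplex k))) (fun k => Function.bijective_id) (fun k w => ?_)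
    (fun k => AddMonoidHom.id (P' ⟶ p.obj (HomologicalComplex.X (c := ComplexShape.up ℕ) J.cocomplex k))) (fun k => Function.bijective_id) (fun k w => ?_) (fun k w => rfl) q
  · show w ≫ (a.map (I.cocomplex.toCycles k (k + 1)) ≫ a.map (I.cocomplex.iCycles (k + 1))) =
      w ≫ a.map (HomologicalComplex.d (c := ComplexShape.up ℕ) I.cocomplex k (k + 1))
    rw [← Functor.map_comp, HomologicalComplex.toCycles_i]
  · show w ≫ (p.map (J.cocomplex.toCycles k (k + 1)) ≫ p.map (J.cocomplex.iCycles (k + 1))) =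
      w ≫ p.map (HomologicalComplex.d (c := ComplexShape.up ℕ) J.cocomplex k (k + 1))
    rw [← Functor.map_comp, HomologicalComplex.toCycles_i]

end Generic

variable {A B C D : Scheme.{u}} (m : A ⟶ B) (a : B ⟶ D) (p : A ⟶ C) (e : C ⟶ D) (hm : m ≫ a = p ≫ e)

lemma bijCoc_ev (G : ℕ → EtCoh.Ab B) (dG : ∀ k, G k ⟶ G (k + 1)) (H : ℕ → EtCoh.Ab A) (dH : ∀ k, H k ⟶ H (k + 1))
    (φ : ∀ k, (EtCoh.pull m).obj (G k) ⟶ H k) (n : ℕ) :
    BijCoc (fun k => AddMonoidHom.mk' (fun w : EtCoh.const B ℤ ⟶ G k => w ≫ dG k) fun _ _ => Preadditive.add_comp _ _ _ _ _ _)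
      (fun k => AddMonoidHom.mk' (fun w : EtCoh.const A ℤ ⟶ H k => w ≫ dH k) fun _ _ => Preadditive.add_comp _ _ _ _ _ _)
      (fun k => AddMonoidHom.mk' (fun w : EtCoh.const B ℤ ⟶ G k =>
        (EtCore.pullConst m ℤ).inv ≫ (EtCoh.pull m).map w ≫ φ k) fun x y => by
          rw [Functor.map_add, Preadditive.add_comp, Preadditive.comp_add]) n ↔
      BijCoc (fun k => ((dG k).hom.app (op (EtCoh.top B))).hom) (fun k => ((dH k).hom.app (op (EtCoh.top A))).hom)
        (fun k => trSec m (φ k)) n :=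
  bijCoc_iff (fun k => ev _) (fun k => bijective_ev _) (fun _ _ => rfl) (fun k => ev _)
    (fun k => bijective_ev _) (fun _ _ => rfl) (fun k w => ev_pull m (φ k) w) n

lemma bijCoc_ev_sq {𝒟 𝒞 : Type*} [Category 𝒟] [Category 𝒞] (Φa : 𝒟 ⥤ EtCoh.Ab B) (Φe : 𝒟 ⥤ 𝒞) (Φp : 𝒞 ⥤ EtCoh.Ab A)
    (α : Φa ⋙ EtCoh.pull m ⟶ Φe ⋙ Φp) (X : ℕ → 𝒟) (dX : ∀ k, X k ⟶ X (k + 1)) (Y : ℕ → 𝒞) (dY : ∀ k, Y k ⟶ Y (k + 1))
    (χ : ∀ k, Φe.obj (X k) ⟶ Y k) (n : ℕ) :
    BijCoc
        (fun k => AddMonoidHom.mk' (fun w : EtCoh.const B ℤ ⟶ Φa.obj (X k) => w ≫ Φa.map (dX k))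
          fun _ _ => Preadditive.add_comp _ _ _ _ _ _)
        (fun k => AddMonoidHom.mk' (fun w : EtCoh.const A ℤ ⟶ Φp.obj (Y k) => w ≫ Φp.map (dY k))
          fun _ _ => Preadditive.add_comp _ _ _ _ _ _)
        (fun k => AddMonoidHom.mk' (fun w : EtCoh.const B ℤ ⟶ Φa.obj (X k) =>
          (EtCore.pullConst m ℤ).inv ≫ (EtCoh.pull m).map w ≫ α.app (X k) ≫ Φp.map (χ k)) fun x y => by
            rw [Functor.map_add, Preadditive.add_comp, Preadditive.comp_add]) n ↔
      BijCoc (fun k => ((Φa.map (dX k)).hom.app (op (EtCoh.top B))).hom)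
        (fun k => ((Φp.map (dY k)).hom.app (op (EtCoh.top A))).hom)
        (fun k => trSec m (α.app (X k) ≫ Φp.map (χ k))) n :=
  bijCoc_ev m (fun k => Φa.obj (X k)) (fun k => Φa.map (dX k)) (fun k => Φp.obj (Y k)) (fun k => Φp.map (dY k))
    (fun k => α.app (X k) ≫ Φp.map (χ k)) n

lemma bijective_sq_iff_ev {A' B' : Scheme.{u}} [PreservesFiniteLimits (EtCoh.pull m)] (Φa : EtCoh.Ab A' ⥤ EtCoh.Ab B)
    (Φe : EtCoh.Ab A' ⥤ EtCoh.Ab B') (Φp : EtCoh.Ab B' ⥤ EtCoh.Ab A) [Φa.Additive] [Φe.Additive] [Φp.Additive]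
    [PreservesFiniteLimits Φa] [PreservesFiniteColimits Φa] [PreservesFiniteLimits Φe] [PreservesFiniteColimits Φe]
    [PreservesFiniteLimits Φp] [PreservesFiniteColimits Φp] (α : Φa ⋙ EtCoh.pull m ⟶ Φe ⋙ Φp) [IsIso α]
    {F : EtCoh.Ab A'} (I : InjectiveResolution F) (J : InjectiveResolution (Φe.obj F))
    (χ : (Φe.mapHomologicalComplex (ComplexShape.up ℕ)).obj I.cocomplex ⟶ J.cocomplex)
    (hχ : Φe.map (I.ι.f 0) ≫ χ.f 0 = J.ι.f 0)
    (hac : ∀ n k, Subsingleton (EtCoh.H B (Φa.obj (HomologicalComplex.X (c := ComplexShape.up ℕ) I.cocomplex n)) (k + 1)))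
    (hac' : ∀ n k, Subsingleton (EtCoh.H A (Φp.obj (HomologicalComplex.X (c := ComplexShape.up ℕ) J.cocomplex n)) (k + 1))) (q : ℕ) :
    Function.Bijective (EtCore.Hpull m (Φa.obj F) q) ↔
      BijCoc (fun k => ((Φa.map (HomologicalComplex.d (c := ComplexShape.up ℕ) I.cocomplex k (k + 1))).hom.app (op (EtCoh.top B))).hom)
        (fun k => ((Φp.map (HomologicalComplex.d (c := ComplexShape.up ℕ) J.cocomplex k (k + 1))).hom.app (op (EtCoh.top A))).hom)
        (fun k => trSec m (α.app (HomologicalComplex.X (c := ComplexShape.up ℕ) I.cocomplex k) ≫ Φp.map (χ.f k))) q :=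
  (bijective_sq_iff Φa (EtCoh.pull m) Φe Φp α I J χ hχ
      (EtCoh.const B ℤ) (EtCoh.const A ℤ) (EtCore.pullConst m ℤ).inv hac hac' q).trans
    (bijCoc_ev_sq m Φa Φe Φp α (HomologicalComplex.X (c := ComplexShape.up ℕ) I.cocomplex)
      (fun k => HomologicalComplex.d (c := ComplexShape.up ℕ) I.cocomplex k (k + 1)) (HomologicalComplex.X (c := ComplexShape.up ℕ) J.cocomplex) (fun k => HomologicalComplex.d (c := ComplexShape.up ℕ) J.cocomplex k (k + 1)) χ.f q)

/-- Bijectivity of pullback on cohomology, on cocycles. -/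
theorem bijective_Hpull_iff_bijCoc [PreservesFiniteLimits (EtCoh.pull m)] [PreservesFiniteLimits (EtCoh.pull a)]
    [PreservesFiniteLimits (EtCoh.pull p)] [PreservesFiniteLimits (EtCoh.pull e)] {F : EtCoh.Ab D}
    (I : InjectiveResolution F) (J : InjectiveResolution ((EtCoh.pull e).obj F))
    (χ : ((EtCoh.pull e).mapHomologicalComplex (ComplexShape.up ℕ)).obj I.cocomplex ⟶ J.cocomplex)
    (hχ : (EtCoh.pull e).map (I.ι.f 0) ≫ χ.f 0 = J.ι.f 0)
    (hacS : ∀ n k, Subsingleton (EtCoh.H B ((EtCoh.pull a).obj (HomologicalComplex.X (c := ComplexShape.up ℕ) I.cocomplex n)) (k + 1)))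
    (hacX : ∀ n k, Subsingleton (EtCoh.H A ((EtCoh.pull p).obj (HomologicalComplex.X (c := ComplexShape.up ℕ) J.cocomplex n)) (k + 1))) (q : ℕ) :
    Function.Bijective (EtCore.Hpull m ((EtCoh.pull a).obj F) q) ↔
      BijCoc (fun k => (((EtCoh.pull a).map (HomologicalComplex.d (c := ComplexShape.up ℕ) I.cocomplex k (k + 1))).hom.app (op (EtCoh.top B))).hom)
        (fun k => (((EtCoh.pull p).map (HomologicalComplex.d (c := ComplexShape.up ℕ) J.cocomplex k (k + 1))).hom.app (op (EtCoh.top A))).hom)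
        (fun k => trSec m ((sqPull m a p e hm).app (HomologicalComplex.X (c := ComplexShape.up ℕ) I.cocomplex k) ≫ (EtCoh.pull p).map (χ.f k))) q :=
  bijective_sq_iff_ev m (EtCoh.pull a) (EtCoh.pull e) (EtCoh.pull p) (sqPull m a p e hm) I J χ hχ hacS hacX q

end Groth.Agent.StalkCrit24
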